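import Mathlib
import Cfsg.Agent.LieRecognition.ReeSetup
import Cfsg.Agent.H28.T5RankOne
import Cfsg.Agent.S1163
import Cfsg.Agent.H916.RG.D12in
import Cfsg.Prelude.Def_Spor_Mathieu
import Cfsg.Prelude.Def_KGroupFacts
import Cfsg.Agent.H334.Ore.M22
import Cfsg.Agent.KFacts.MM.OutAut
import Cfsg.Agent.H729.TransFast
import Cfsg.Agent.FastGrp
import Cfsg.Agent.Prune
set_option linter.all false

section
prune_inst 0x7ffefef8efb8addfdfff7e7ffef9dffe3bd5dfffffdffb43ffe8e1ff8fdf030239e5fb8d1de058ff0ef760b630b87853fb7eeeffee6fdc7ffffdfff45ffbee0fa5e7bf8911d78c340f340fff63f07f8e7f3fffffffffffffffffffffffffffbefffdffffffff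

-- part: H452/RG/ReeOuter
section
set_option linter.all false
open scoped Cfsg.Agent.FastGrp

-- part: H452/RG/Fix
section
/-!
# Sets of group elements moving an element into a subgroup

`FS ι K x = {n : (ι n)⁻¹ x (ι n) ∈ K}` for a homomorphism `ι : N → G`.

* `FS_mul`, `FS_pow`, `ncard_FS_conj`;
* `ncard_disj` : sets of the same size, disjoint outside `W`;
* `FS_dihedral` : `p |FS t| ≤ |N| + p |FS y|` for an involution `t` inverting `y` of odd prime order `p`;
* `FS_elem` : `3 |FS e| ≤ |N| + 2 |⋂ FS e|` for a `3`-group `E` with constant `|FS e|`.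
-/

set_option autoImplicit false

namespace Cfsg.Agent.H452.RG

variable {N G : Type*} [Group N] [Group G]

/-- elements moving `x` into `K` -/
def FS (ι : N →* G) (K : Subgroup G) (x : G) : Set N := {n | (ι n)⁻¹ * x * ι n ∈ K}

/-- elements moving the set `E` into `K` -/
def FSS (ι : N →* G) (K : Subgroup G) (E : Set G) : Set N := {n | ∀ e ∈ E, (ι n)⁻¹ * e * ι n ∈ K}

variable {ι : N →* G} {K : Subgroup G}

theorem mem_FS {x : G} {n : N} : n ∈ FS ι K x ↔ (ι n)⁻¹ * x * ι n ∈ K := Iff.rfl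

theorem FS_mul {x y : G} {n : N} (hx : n ∈ FS ι K x) (hy : n ∈ FS ι K y) : n ∈ FS ι K (x * y) := by
  have h1 := K.mul_mem hx hy
  have h2 : (ι n)⁻¹ * (x * y) * ι n = (ι n)⁻¹ * x * ι n * ((ι n)⁻¹ * y * ι n) := by group
  rw [mem_FS, h2]
  exact h1

theorem FS_one {n : N} : n ∈ FS ι K 1 := by
  rw [mem_FS]
  have : (ι n)⁻¹ * 1 * ι n = 1 := by group
  rw [this]
  exact K.one_mem

theorem FS_inv {x : G} {n : N} (hx : n ∈ FS ι K x) : n ∈ FS ι K x⁻¹ := by
  have h1 := K.inv_mem hx
  have h2 : (ι n)⁻¹ * x⁻¹ * ι n = ((ι n)⁻¹ * x * ι n)⁻¹ := by group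
  rw [mem_FS, h2]
  exact h1

theorem FS_pow {x : G} {n : N} (hx : n ∈ FS ι K x) (k : ℕ) : n ∈ FS ι K (x ^ k) := by
  induction k with
  | zero => rw [pow_zero]; exact FS_one
  | succ k ih => rw [pow_succ]; exact FS_mul ih hx

theorem FS_zpow {x : G} {n : N} (hx : n ∈ FS ι K x) (k : ℤ) : n ∈ FS ι K (x ^ k) := by
  rcases Int.eq_nat_or_neg k with ⟨j, rfl | rfl⟩
  · rw [zpow_natCast]; exact FS_pow hx j
  · rw [zpow_neg, zpow_natCast]; exact FS_inv (FS_pow hx j)

theorem FS_conj_iff {x : G} {n g : N} : n ∈ FS ι K (ι g * x * (ι g)⁻¹) ↔ g⁻¹ * n ∈ FS ι K x := by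
  rw [mem_FS, mem_FS, map_mul, map_inv]
  have h : (ι n)⁻¹ * (ι g * x * (ι g)⁻¹) * ι n = ((ι g)⁻¹ * ι n)⁻¹ * x * ((ι g)⁻¹ * ι n) := by group
  rw [h]

theorem ncard_FS_conj (x : G) (g : N) : (FS ι K (ι g * x * (ι g)⁻¹)).ncard = (FS ι K x).ncard := by
  have h1 : FS ι K (ι g * x * (ι g)⁻¹) = (fun n => g * n) '' FS ι K x := by
    ext n
    rw [FS_conj_iff]
    constructor
    · intro h
      exact ⟨g⁻¹ * n, h, by simp⟩
    · rintro ⟨n', h, rfl⟩
      simpa using h
  rw [h1]
  exact Set.ncard_image_of_injective _ (mul_right_injective g)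

theorem ncard_FS_inv (x : G) : FS ι K x⁻¹ = FS ι K x := by
  ext n
  constructor
  · intro h
    have := FS_inv h
    rwa [inv_inv] at this
  · exact FS_inv

theorem ncard_FSS_conj (E : Set G) (g : N) :
    (FSS ι K ((fun e => ι g * e * (ι g)⁻¹) '' E)).ncard = (FSS ι K E).ncard := by
  have h1 : FSS ι K ((fun e => ι g * e * (ι g)⁻¹) '' E) = (fun n => g * n) '' FSS ι K E := by
    ext n
    constructor
    · intro h
      refine ⟨g⁻¹ * n, ?_, by simp⟩
      intro e he
      exact FS_conj_iff.1 (h _ ⟨e, he, rfl⟩)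
    · rintro ⟨n', h, rfl⟩
      rintro _ ⟨e, he, rfl⟩
      change g * n' ∈ FS ι K (ι g * e * (ι g)⁻¹)
      rw [FS_conj_iff, inv_mul_cancel_left]
      exact h e he
  rw [h1]
  exact Set.ncard_image_of_injective _ (mul_right_injective g)

/-- elements moving the members of a subgroup into `K` -/
def FSub (ι : N →* G) (K : Subgroup G) (n : N) : Subgroup G where
  carrier := {x | n ∈ FS ι K x}
  mul_mem' h1 h2 := FS_mul h1 h2
  one_mem' := FS_one
  inv_mem' h := FS_inv h

/-- sets of the same size, disjoint outside `W` -/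
theorem ncard_disj {Y J : Type*} [Finite Y] [Finite J] (F : J → Set Y) (W : Set Y) {a : ℕ}
    (ha : ∀ i, (F i).ncard = a) (hd : ∀ i j, i ≠ j → F i ∩ F j ⊆ W) :
    Nat.card J * a ≤ Nat.card Y + Nat.card J * W.ncard := by
  classical
  have hJ := Fintype.ofFinite J
  have hY := Fintype.ofFinite Y
  have h1 : Nat.card (Σ i, ↥(F i \ W)) ≤ Nat.card Y := by
    refine Nat.card_le_card_of_injective (fun x => (x.2 : Y)) ?_
    rintro ⟨i, x, hx, hxW⟩ ⟨j, y, hy, hyW⟩ h
    have h' : x = y := h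
    subst h'
    by_cases hij : i = j
    · subst hij; rfl
    · exact absurd (hd i j hij ⟨hx, hy⟩) hxW
  rw [Nat.card_sigma] at h1
  have h2 : ∀ i, a ≤ Nat.card ↥(F i \ W) + W.ncard := by
    intro i
    rw [Nat.card_coe_set_eq, ← ha i]
    exact Set.ncard_le_ncard_sdiff_add_ncard _ _
  calc Nat.card J * a = ∑ _i : J, a := by rw [Finset.sum_const, Finset.card_univ, smul_eq_mul, Nat.card_eq_fintype_card]
    _ ≤ ∑ i : J, (Nat.card ↥(F i \ W) + W.ncard) := Finset.sum_le_sum fun i _ => h2 i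
    _ = ∑ i : J, Nat.card ↥(F i \ W) + Nat.card J * W.ncard := by
        rw [Finset.sum_add_distrib, Finset.sum_const, Finset.card_univ, smul_eq_mul, Nat.card_eq_fintype_card]
    _ ≤ _ := Nat.add_le_add_right h1 _

/-- the ratio of an involution inverting an element of odd prime order -/
theorem FS_dihedral [Finite N] {p : ℕ} (hp : p.Prime) (hp2 : p ≠ 2) {t y : N} (hy : orderOf y = p) (htt : t * t = 1)
    (hty : t * y * t = y⁻¹) : p * (FS ι K (ι t)).ncard ≤ Nat.card N + p * (FS ι K (ι y)).ncard := by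
  classical
  let F : Fin p → Set N := fun j => FS ι K (ι (y ^ (j : ℕ)) * ι t * (ι (y ^ (j : ℕ)))⁻¹)
  have hcard : Nat.card (Fin p) = p := by rw [Nat.card_eq_fintype_card, Fintype.card_fin]
  have h1 := ncard_disj F (FS ι K (ι y)) (a := (FS ι K (ι t)).ncard) (fun i => ncard_FS_conj _ _) ?_
  · rwa [hcard] at h1
  intro i j hij n hn
  have h2 := FS_mul hn.1 hn.2
  -- `t_i t_j = y ^ (2 (i - j))`
  have htz : ∀ k : ℤ, t * y ^ k * t = y ^ (-k) := by
    intro k
    have h3 : t⁻¹ = t := inv_eq_of_mul_eq_one_left htt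
    have h4 : t * y ^ k * t = (t * y * t⁻¹) ^ k := by rw [conj_zpow, h3]
    rw [h4, h3, hty, inv_zpow, zpow_neg]
  have h3 : (ι (y ^ (i : ℕ)) * ι t * (ι (y ^ (i : ℕ)))⁻¹) * (ι (y ^ (j : ℕ)) * ι t * (ι (y ^ (j : ℕ)))⁻¹) =
      ι (y ^ (2 * ((i : ℤ) - (j : ℤ)))) := by
    rw [← map_inv, ← map_inv, ← map_mul, ← map_mul, ← map_mul, ← map_mul, ← map_mul]
    congr 1
    calc y ^ (i : ℕ) * t * (y ^ (i : ℕ))⁻¹ * (y ^ (j : ℕ) * t * (y ^ (j : ℕ))⁻¹)
        = y ^ (i : ℤ) * (t * y ^ (-(i : ℤ) + (j : ℤ)) * t) * y ^ (-(j : ℤ)) := by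
          rw [zpow_add, zpow_neg, zpow_neg, zpow_natCast, zpow_natCast]; group
      _ = y ^ (2 * ((i : ℤ) - (j : ℤ))) := by
          rw [htz, ← zpow_add, ← zpow_add]
          congr 1
          ring
  rw [h3] at h2
  -- `y` is a power of it
  have h4 : IsCoprime (2 * ((i : ℤ) - (j : ℤ))) (p : ℤ) := by
    have hpi : Prime (p : ℤ) := Nat.prime_iff_prime_int.1 hp
    rw [isCoprime_comm]
    refine (Prime.coprime_iff_not_dvd hpi).2 ?_
    intro h5
    rcases hpi.dvd_or_dvd h5 with h6 | h6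
    · have h7 : p ∣ 2 := by exact_mod_cast h6
      exact hp2 ((Nat.prime_dvd_prime_iff_eq hp Nat.prime_two).1 h7)
    · apply hij
      have h7 := Int.eq_zero_of_abs_lt_dvd h6 (by
        rw [abs_lt]
        constructor
        · have := i.2; have := j.2; omega
        · have := i.2; have := j.2; omega)
      apply Fin.ext
      omega
  obtain ⟨u, v, huv⟩ := h4
  have h5 := FS_zpow h2 u
  have h6 : ι (y ^ (2 * ((i : ℤ) - (j : ℤ)))) ^ u = ι y := by
    rw [← map_zpow, ← zpow_mul]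
    congr 1
    have h7 : 2 * ((i : ℤ) - (j : ℤ)) * u = 1 - p * v := by linear_combination huv
    rw [h7, zpow_sub, zpow_one, zpow_mul, zpow_natCast, ← hy, pow_orderOf_eq_one, one_zpow, inv_one, mul_one]
  rw [h6] at h5
  exact h5

/-- a `3`-group all of whose nonidentity elements have the same ratio -/
theorem FS_elem [Finite N] (E : Subgroup G) {f : ℕ} (hf : f ≠ 0) (hE : Nat.card E = 3 ^ f) {a : ℕ}
    (ha : ∀ e ∈ E, e ≠ 1 → (FS ι K e).ncard = a) :
    3 * a ≤ Nat.card N + 2 * (FSS ι K (E : Set G)).ncard := by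
  classical
  have hEf : Finite E := Nat.finite_of_card_ne_zero (by rw [hE]; positivity)
  have hEF := Fintype.ofFinite E
  have hNF := Fintype.ofFinite N
  let P : N → E → Prop := fun n e => n ∈ FS ι K (e : G)
  -- double counting
  have h1 : ∑ e : E, (Finset.univ.filter fun n => P n e).card = ∑ n : N, (Finset.univ.filter fun e => P n e).card := by
    simp only [Finset.card_filter]
    exact Finset.sum_comm
  have h2 : ∀ e : E, e ≠ 1 → (Finset.univ.filter fun n => P n e).card = a := by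
    intro e he
    rw [← ha e e.2 (fun h => he (Subtype.ext h)), Set.ncard_eq_toFinset_card', ]
    congr 1
    ext n
    simp [P]
  have h3 : (Finset.univ.filter fun n => P n 1).card = Nat.card N := by
    rw [Nat.card_eq_fintype_card, ← Finset.card_univ]
    congr 1
    rw [Finset.filter_true_of_mem]
    intro n _
    exact FS_one
  have h4 : ∑ e : E, (Finset.univ.filter fun n => P n e).card = Nat.card N + (3 ^ f - 1) * a := by
    rw [← Finset.add_sum_erase _ _ (Finset.mem_univ (1 : E)), h3]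
    congr 1
    rw [Finset.sum_congr rfl (fun e he => h2 e (Finset.ne_of_mem_erase he)), Finset.sum_const,
      Finset.card_erase_of_mem (Finset.mem_univ _), Finset.card_univ, ← Nat.card_eq_fintype_card, hE, smul_eq_mul]
  -- the fibres
  have h5 : ∀ n : N, (Finset.univ.filter fun e => P n e).card = Nat.card ↥((FSub ι K n).subgroupOf E) := by
    intro n
    rw [Nat.card_eq_fintype_card, Fintype.card_subtype]
    congr 1
  have h6 : ∀ n : N, n ∉ FSS ι K (E : Set G) → 3 * (Finset.univ.filter fun e => P n e).card ≤ 3 ^ f := by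
    intro n hn
    rw [h5]
    have h7 := ((FSub ι K n).subgroupOf E).card_mul_index
    rw [hE] at h7
    have h8 : ((FSub ι K n).subgroupOf E).index ∣ 3 ^ f := ⟨_, by rw [mul_comm]; exact h7.symm⟩
    obtain ⟨k, -, hk⟩ := (Nat.dvd_prime_pow Nat.prime_three).1 h8
    have h9 : ((FSub ι K n).subgroupOf E).index ≠ 1 := by
      intro h
      apply hn
      rw [Subgroup.index_eq_one] at h
      intro e he
      have : (⟨e, he⟩ : E) ∈ (FSub ι K n).subgroupOf E := by rw [h]; trivial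
      exact this
    have h10 : 3 ≤ ((FSub ι K n).subgroupOf E).index := by
      rw [hk]
      rcases Nat.eq_zero_or_pos k with h0 | h0
      · rw [hk, h0, pow_zero] at h9
        exact absurd rfl h9
      · calc 3 = 3 ^ 1 := (pow_one 3).symm
          _ ≤ 3 ^ k := Nat.pow_le_pow_right (by norm_num) h0
    calc 3 * Nat.card ↥((FSub ι K n).subgroupOf E) = Nat.card ↥((FSub ι K n).subgroupOf E) * 3 := mul_comm _ _
      _ ≤ Nat.card ↥((FSub ι K n).subgroupOf E) * ((FSub ι K n).subgroupOf E).index := Nat.mul_le_mul_left _ h10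
      _ = 3 ^ f := h7
  have h7 : ∀ n : N, (Finset.univ.filter fun e => P n e).card ≤ 3 ^ f := by
    intro n
    rw [← hE, Nat.card_eq_fintype_card, ← Finset.card_univ]
    exact Finset.card_filter_le _ _
  -- summation
  have h8 : 3 * ∑ n : N, (Finset.univ.filter fun e => P n e).card ≤
      3 ^ f * Nat.card N + 2 * 3 ^ f * (FSS ι K (E : Set G)).ncard := by
    rw [Finset.mul_sum, Set.ncard_eq_toFinset_card', Nat.card_eq_fintype_card, ← Finset.card_univ]
    have h9 : ∀ n : N, 3 * (Finset.univ.filter fun e => P n e).card ≤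
        3 ^ f + (if n ∈ (FSS ι K (E : Set G)).toFinset then 2 * 3 ^ f else 0) := by
      intro n
      by_cases hn : n ∈ (FSS ι K (E : Set G)).toFinset
      · rw [if_pos hn]
        have := h7 n
        omega
      · rw [if_neg hn, add_zero]
        exact h6 n (fun h => hn (Set.mem_toFinset.2 h))
    calc ∑ n : N, 3 * (Finset.univ.filter fun e => P n e).card
        ≤ ∑ n : N, (3 ^ f + (if n ∈ (FSS ι K (E : Set G)).toFinset then 2 * 3 ^ f else 0)) :=
          Finset.sum_le_sum fun n _ => h9 n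
      _ = _ := by
          rw [Finset.sum_add_distrib, Finset.sum_const, smul_eq_mul, ← Finset.sum_filter, Finset.sum_const, smul_eq_mul,
            Finset.filter_mem_eq_inter, Finset.univ_inter]
          ring
  rw [← h1, h4] at h8
  have hb : (FSS ι K (E : Set G)).ncard ≤ Nat.card N := by
    rw [← Set.ncard_univ]
    exact Set.ncard_le_ncard (Set.subset_univ _) (Set.toFinite _)
  -- `3 (3^f - 1) a ≤ (3^f - 3) |N| + 2 3^f b`
  obtain ⟨Q, hQ⟩ : ∃ Q, 3 ^ f = Q + 1 := ⟨3 ^ f - 1, by have := Nat.one_le_pow f 3 (by norm_num); omega⟩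
  have hQ2 : 2 ≤ Q := by
    have : 3 ^ 1 ≤ 3 ^ f := Nat.pow_le_pow_right (by norm_num) (Nat.pos_of_ne_zero hf)
    omega
  rw [hQ, Nat.add_sub_cancel] at h8
  have h9 : Q * (3 * a) ≤ Q * (Nat.card N + 2 * (FSS ι K (E : Set G)).ncard) := by
    generalize (FSS ι K (E : Set G)).ncard = b at *
    generalize Nat.card N = M at *
    linarith only [hb, h8]
  exact Nat.le_of_mul_le_mul_left h9 (by omega)

end Cfsg.Agent.H452.RG
end

-- part: H452/RG/ReeDat
section
/-!
# Fixed point ratios in groups with the Bruhat normal form of a Ree group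

* `ratio_inv` : `p |FS t| ≤ |G| + p |FS (h a)|`, `t` an involution, `a` of odd prime order `p`;
* `two_FSS_z` : `2 |FSS Z(U)| ≤ |G|` for a proper subgroup;
* `two_FSS_q` : `2 |FSS {U 0 u 0}| ≤ |G| + |FS (h (a²))|`;
* `ratio_three` : `3 |FS z| ≤ 2 |G| + |FS (h (a²))|`, `z` of order `3`.
-/

set_option autoImplicit false
set_option linter.unusedSectionVars false

namespace Cfsg.Agent.H452.RG.ReeD

open Cfsg.Agent.LieRecognition Cfsg.Agent.LieRecognition.ReeAbs Cfsg.Agent.LieRecognition.ReeSylowThree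
  Cfsg.Agent.LieRecognition.ReeSplit MulAction

variable {K : Type*} [Field K] [Fintype K] {G : Type*} [Group G] [Finite G] {m : ℕ}
  {U : K → K → K → G} {h : Kˣ → G} {n : G}

theorem b_mul (D : Data m U h n) (t u v : K) (a : Kˣ) (t' u' v' : K) (a' : Kˣ) :
    ∃ t'' u'' v'', U t u v * h a * (U t' u' v' * h a') = U t'' u'' v'' * h (a * a') := by
  have h1 : U t u v * h a * (U t' u' v' * h a') = U t u v * (h a * U t' u' v') * h a' := by group
  rw [h1, D.h_U, mul_assoc (U t u v), mul_assoc (U _ _ _) (h a), ← D.h_mul, ← mul_assoc, D.U_mul]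
  exact ⟨_, _, _, rfl⟩

theorem b_pow (D : Data m U h n) (t u v : K) (a : Kˣ) (k : ℕ) :
    ∃ t' u' v', (U t u v * h a) ^ k = U t' u' v' * h (a ^ k) := by
  induction k with
  | zero => exact ⟨0, 0, 0, by rw [pow_zero, pow_zero, D.U_zero, D.h_one, one_mul]⟩
  | succ k ih =>
    obtain ⟨t', u', v', hk⟩ := ih
    obtain ⟨t'', u'', v'', h1⟩ := b_mul D t' u' v' (a ^ k) t u v a
    exact ⟨t'', u'', v'', by rw [pow_succ, hk, h1, pow_succ]⟩

/-- the order of the torus part divides the order -/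
theorem b_order (D : Data m U h n) (t u v : K) (a : Kˣ) : orderOf a ∣ orderOf (U t u v * h a) := by
  apply orderOf_dvd_of_pow_eq_one
  obtain ⟨t', u', v', h1⟩ := b_pow D t u v a (orderOf (U t u v * h a))
  rw [pow_orderOf_eq_one] at h1
  have h2 : U 0 0 0 * h 1 = U t' u' v' * h (a ^ orderOf (U t u v * h a)) := by
    rw [← h1, D.U_zero, D.h_one, one_mul]
  exact (D.inj₁ _ _ _ _ _ _ _ _ h2).2.2.2.symm

/-- `3`-subgroups are conjugate into `U` -/
theorem three_le (D : Data m U h n) (hK : Fintype.card K = 3 ^ (2 * m + 1)) {R : Subgroup G} (hR : IsPGroup 3 R) :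
    ∃ g : G, ∀ r ∈ R, g⁻¹ * r * g ∈ uSub D := by
  have : Fact (Nat.Prime 3) := ⟨Nat.prime_three⟩
  have h3 : ¬ 3 ∣ Nat.card (G ⧸ uSub D) := ReeClass.index_U (ReeSetup.local_of_data D hK) (ReeClass.arith m)
  obtain ⟨c, hc⟩ := hR.nonempty_fixed_point_of_prime_not_dvd_card (G ⧸ uSub D) h3
  obtain ⟨g, rfl⟩ := QuotientGroup.mk_surjective c
  refine ⟨g, fun r hr => ?_⟩
  have h2 : ((r * g : G) : G ⧸ uSub D) = (g : G ⧸ uSub D) := hc ⟨r, hr⟩
  rw [eq_comm, QuotientGroup.eq] at h2
  simpa only [mul_assoc] using h2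

/-! ### The centre of `U` -/

theorem z_comm (D : Data m U h n) (t u v w : K) : U t u v * U 0 0 w = U 0 0 w * U t u v := by
  rw [D.U_mul, D.U_mul]
  have h0 : (0 : K) ^ (3 ^ (m + 1)) = 0 := zero_pow (by positivity)
  simp only [h0]
  congr 1 <;> ring

/-- the centre of `U` -/
def zSub (D : Data m U h n) : Subgroup G where
  carrier := {g | ∃ v, g = U 0 0 v}
  mul_mem' := by
    rintro _ _ ⟨v, rfl⟩ ⟨w, rfl⟩
    refine ⟨v + w, ?_⟩
    rw [D.U_mul]
    have h0 : (0 : K) ^ (3 ^ (m + 1)) = 0 := zero_pow (by positivity)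
    simp only [h0]
    congr 1 <;> ring
  one_mem' := ⟨0, D.U_zero.symm⟩
  inv_mem' := by
    rintro _ ⟨v, rfl⟩
    refine ⟨-v, ?_⟩
    rw [inv_eq_iff_mul_eq_one, D.U_mul, ← D.U_zero]
    have h0 : (0 : K) ^ (3 ^ (m + 1)) = 0 := zero_pow (by positivity)
    simp only [h0]
    congr 1 <;> ring

theorem zSub_le (D : Data m U h n) : zSub D ≤ uSub D := by
  rintro _ ⟨v, rfl⟩
  exact ⟨0, 0, v, rfl⟩

theorem card_zSub (D : Data m U h n) : Nat.card (zSub D) = Fintype.card K := by
  rw [← Nat.card_eq_fintype_card]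
  refine (Nat.card_congr (Equiv.ofBijective (fun v : K => (⟨U 0 0 v, v, rfl⟩ : zSub D)) ⟨?_, ?_⟩)).symm
  · intro v w hvw
    exact (U_injective D (congrArg Subtype.val hvw)).2.2
  · rintro ⟨_, v, rfl⟩
    exact ⟨v, rfl⟩

theorem b_conj_z (D : Data m U h n) {g z : G} (hg : g ∈ bSub D) (hz : z ∈ zSub D) : g * z * g⁻¹ ∈ zSub D := by
  obtain ⟨t, u, v, a, rfl⟩ := hg
  obtain ⟨w, rfl⟩ := hz
  refine ⟨(a : K) ^ (2 * 3 ^ (m + 1) + 3) * w, ?_⟩
  have h1 := D.h_U a 0 0 w
  rw [mul_zero, mul_zero] at h1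
  rw [mul_inv_eq_iff_eq_mul, mul_assoc, h1, ← mul_assoc, z_comm D, mul_assoc]

/-- **At most half of the conjugates of `Z(U)` lie in a proper subgroup.** -/
theorem two_FSS_z [IsSimpleGroup G] (D : Data m U h n) (hK : Fintype.card K = 3 ^ (2 * m + 1)) {H : Subgroup G}
    (hH : H ≠ ⊤) : 2 * (FSS (MonoidHom.id G) H (zSub D : Set G)).ncard ≤ Nat.card G := by
  classical
  have h3p : Fact (Nat.Prime 3) := ⟨Nat.prime_three⟩
  obtain ⟨B, hB⟩ : ∃ B, B = bSub D := ⟨_, rfl⟩
  obtain ⟨q, hq⟩ : ∃ q, q = Fintype.card K := ⟨_, rfl⟩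
  have hq3 : 3 ≤ q := by
    rw [hq, hK]
    calc 3 = 3 ^ 1 := by norm_num
      _ ≤ 3 ^ (2 * m + 1) := Nat.pow_le_pow_right (by norm_num) (by omega)
  have hZ : Nat.card (zSub D) = q := by rw [card_zSub, hq]
  -- the predicate
  let P : G → Prop := fun g => ∀ z ∈ zSub D, g * z * g⁻¹ ∈ H
  have hPB : ∀ g b, b ∈ B → P g → P (g * b) := by
    intro g b hb hg z hz
    have h1 : g * b * z * (g * b)⁻¹ = g * (b * z * b⁻¹) * g⁻¹ := by group
    rw [h1]
    exact hg _ (b_conj_z D (hB ▸ hb) hz)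
  have hPH : ∀ k g, k ∈ H → P g → P (k * g) := by
    intro k g hk hg z hz
    have h1 : k * g * z * (k * g)⁻¹ = k * (g * z * g⁻¹) * k⁻¹ := by group
    rw [h1]
    exact H.mul_mem (H.mul_mem hk (hg z hz)) (H.inv_mem hk)
  let T : Set (G ⧸ B) := {x | P (Quotient.out x)}
  have hT : ∀ g : G, (g : G ⧸ B) ∈ T ↔ P g := by
    intro g
    obtain ⟨b, hb⟩ := QuotientGroup.mk_out_eq_mul B g
    change P (Quotient.out (g : G ⧸ B)) ↔ P g
    rw [hb]
    constructor
    · intro h1
      have h2 := hPB _ _ (B.inv_mem b.2) h1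
      rwa [mul_inv_cancel_right] at h2
    · exact hPB _ _ b.2
  -- the number of elements
  have hFT : (FSS (MonoidHom.id G) H (zSub D : Set G)).ncard ≤ T.ncard * Nat.card B := by
    rw [← Nat.card_coe_set_eq T, ← Nat.card_prod, ← Nat.card_coe_set_eq]
    let f : ↥(FSS (MonoidHom.id G) H (zSub D : Set G)) → ↥T × ↥B := fun x =>
      (⟨((x : G)⁻¹ : G), (hT _).2 (fun z hz => by
        have h1 := x.2 z hz
        change (x : G)⁻¹ * z * (x : G) ∈ H at h1
        rwa [inv_inv])⟩,
        ⟨(Quotient.out (((x : G)⁻¹ : G) : G ⧸ B))⁻¹ * (x : G)⁻¹, by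
          rw [← QuotientGroup.eq]
          exact QuotientGroup.out_eq' _⟩)
    refine Nat.card_le_card_of_injective f ?_
    intro x y hxy
    have h1 : (((x : G)⁻¹ : G) : G ⧸ B) = (((y : G)⁻¹ : G) : G ⧸ B) :=
      congrArg (fun z : ↥T × ↥B => (z.1 : G ⧸ B)) hxy
    have h2 : (Quotient.out (((x : G)⁻¹ : G) : G ⧸ B))⁻¹ * (x : G)⁻¹ =
        (Quotient.out (((y : G)⁻¹ : G) : G ⧸ B))⁻¹ * (y : G)⁻¹ :=
      congrArg (fun z : ↥T × ↥B => (z.2 : G)) hxy
    rw [h1] at h2
    exact Subtype.ext (inv_injective (mul_left_cancel h2))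
  have hGB : Nat.card G = Nat.card (G ⧸ B) * Nat.card B := Subgroup.card_eq_card_quotient_mul_card_subgroup B
  suffices hmain : 2 * T.ncard ≤ Nat.card (G ⧸ B) by
    rw [hGB]
    calc 2 * (FSS (MonoidHom.id G) H (zSub D : Set G)).ncard ≤ 2 * (T.ncard * Nat.card B) := Nat.mul_le_mul_left _ hFT
      _ = (2 * T.ncard) * Nat.card B := by ring
      _ ≤ _ := Nat.mul_le_mul_right _ hmain
  rcases T.eq_empty_or_nonempty with hT0 | ⟨x₀, hx₀⟩
  · rw [hT0]; simp only [_root_.Set.ncard_empty, _root_.MulZeroClass.mul_zero, _root_.zero_le]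
  obtain ⟨b₀, rfl⟩ := QuotientGroup.mk_surjective x₀
  have hb₀ : P b₀ := (hT b₀).1 hx₀
  -- a conjugate of `Z(U)` outside `H`
  obtain ⟨c, hc⟩ : ∃ c : G, ¬ P c := by
    by_contra hno
    push Not at hno
    apply hH
    have h1 : Subgroup.normalClosure (zSub D : Set G) ≤ H := by
      rw [Subgroup.normalClosure, Subgroup.closure_le]
      intro x hx
      obtain ⟨z, hz, hxz⟩ := Group.mem_conjugatesOfSet_iff.1 hx
      obtain ⟨g, hg⟩ := isConj_iff.1 hxz
      rw [← hg]
      exact hno g z hz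
    rcases (IsSimpleGroup.eq_bot_or_eq_top_of_normal _ (Subgroup.normalClosure_normal (s := (zSub D : Set G)))) with
      h2 | h2
    · exfalso
      have h3 : zSub D ≤ ⊥ := by
        rw [← h2]
        exact Subgroup.subset_normalClosure
      have h4 : zSub D = ⊥ := le_bot_iff.1 h3
      rw [h4, Subgroup.card_bot] at hZ
      omega
    · rw [h2] at h1
      exact top_le_iff.1 h1
  -- `H ∩ c U c⁻¹ = 1`
  have hcU : ∀ w ∈ H, c⁻¹ * w * c ∈ uSub D → w = 1 := by
    intro w hw hwc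
    by_contra hw1
    -- Sylow subgroups of `H`
    have hw9 : w ^ 9 = 1 := by
      have h1 := pow_nine D hK hwc
      have h2 : (c⁻¹ * w * c) ^ 9 = c⁻¹ * w ^ 9 * c := by
        have := conj_pow (i := 9) (a := c⁻¹) (b := w)
        rwa [inv_inv] at this
      rw [h2] at h1
      calc w ^ 9 = c * (c⁻¹ * w ^ 9 * c) * c⁻¹ := by group
        _ = 1 := by rw [h1]; group
    have hpw : IsPGroup 3 (Subgroup.zpowers (⟨w, hw⟩ : H)) := by
      have h1 : (⟨w, hw⟩ : H) ^ 3 ^ 2 = 1 := Subtype.ext hw9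
      obtain ⟨j, -, hj⟩ := (Nat.dvd_prime_pow Nat.prime_three).1 (orderOf_dvd_of_pow_eq_one h1)
      exact IsPGroup.of_card (n := j) (by rw [Nat.card_zpowers, hj])
    obtain ⟨Rc, hRc⟩ := hpw.exists_le_sylow
    let E : Subgroup G := (zSub D).map (MulAut.conj b₀).toMonoidHom
    have hEH : E ≤ H := by
      rintro _ ⟨z, hz, rfl⟩
      exact hb₀ z hz
    have hpE : IsPGroup 3 E := by
      apply IsPGroup.of_card (n := 2 * m + 1)
      rw [← hK, ← card_zSub D]
      exact (Nat.card_congr ((zSub D).equivMapOfInjective _ (MulAut.conj b₀).injective).toEquiv).symm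
    obtain ⟨R₀, hR₀⟩ := (hpE.comap_subtype (K := H)).exists_le_sylow
    obtain ⟨k, hk⟩ := exists_smul_eq H Rc R₀
    -- `R₀` in a conjugate of `U`
    obtain ⟨g, hg⟩ := three_le D hK (R₀.2.map H.subtype)
    -- `g B = b₀ B`
    obtain ⟨z, hz, hz1⟩ : ∃ z ∈ zSub D, z ≠ 1 := by
      by_contra hno
      push Not at hno
      have h4 : zSub D = ⊥ := by
        rw [eq_bot_iff]
        intro x hx
        rw [Subgroup.mem_bot]
        exact hno x hx
      rw [h4, Subgroup.card_bot] at hZ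
      omega
    have hzR : b₀ * z * b₀⁻¹ ∈ (R₀ : Subgroup H).map H.subtype := by
      refine ⟨⟨b₀ * z * b₀⁻¹, hb₀ z hz⟩, hR₀ ?_, rfl⟩
      change b₀ * z * b₀⁻¹ ∈ E
      exact ⟨z, hz, rfl⟩
    have hgb : b₀⁻¹ * g ∈ B := by
      rw [hB]
      refine mem_bSub_of_inv_conj_mem D (zSub_le D hz) hz1 ?_
      have h1 := hg _ hzR
      have h2 : (b₀⁻¹ * g)⁻¹ * z * (b₀⁻¹ * g) = g⁻¹ * (b₀ * z * b₀⁻¹) * g := by group
      rw [h2]
      exact h1
    have hPg : P g := by
      have := hPB b₀ _ hgb hb₀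
      rwa [mul_inv_cancel_left] at this
    -- the conjugate of `w`
    have hwk : (k : G) * w * (k : G)⁻¹ ∈ (R₀ : Subgroup H).map H.subtype := by
      rw [← hk, Sylow.smul_def]
      refine ⟨k * ⟨w, hw⟩ * k⁻¹, ?_, rfl⟩
      exact ⟨⟨w, hw⟩, hRc (Subgroup.mem_zpowers _), rfl⟩
    have hkc : c⁻¹ * (k : G)⁻¹ * g ∈ B := by
      rw [hB]
      refine mem_bSub_of_inv_conj_mem D hwc ?_ ?_
      · intro h1
        apply hw1
        calc w = c * (c⁻¹ * w * c) * c⁻¹ := by group
          _ = 1 := by rw [h1]; group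
      · have h1 := hg _ hwk
        have h2 : (c⁻¹ * (k : G)⁻¹ * g)⁻¹ * (c⁻¹ * w * c) * (c⁻¹ * (k : G)⁻¹ * g) =
            g⁻¹ * ((k : G) * w * (k : G)⁻¹) * g := by group
        rw [h2]
        exact h1
    apply hc
    have h1 : P ((k : G)⁻¹ * g) := hPH _ _ (H.inv_mem k.2) hPg
    have h2 := hPB _ _ (B.inv_mem hkc) h1
    have h3 : (k : G)⁻¹ * g * (c⁻¹ * (k : G)⁻¹ * g)⁻¹ = c := by group
    rwa [h3] at h2
  -- the stabiliser in `H` of the point `c B`
  have hstab : Nat.card (stabilizer H (c : G ⧸ B)) ≤ q - 1 := by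
    have h1 : ∀ s : stabilizer H (c : G ⧸ B), ∃ t u v a, c⁻¹ * ((s : H) : G) * c = U t u v * h a := by
      rintro ⟨s, hs⟩
      have h2 : (((s : G) * c : G) : G ⧸ B) = (c : G ⧸ B) := hs
      rw [eq_comm, QuotientGroup.eq, hB] at h2
      rw [mul_assoc]
      exact h2
    choose t u v a hs using h1
    have hinj : Function.Injective a := by
      intro s s' hss
      have h2 : c⁻¹ * (((s : H) : G) * ((s' : H) : G)⁻¹) * c = U (t s) (u s) (v s) * (U (t s') (u s') (v s'))⁻¹ := by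
        calc c⁻¹ * (((s : H) : G) * ((s' : H) : G)⁻¹) * c =
            (c⁻¹ * ((s : H) : G) * c) * (c⁻¹ * ((s' : H) : G) * c)⁻¹ := by group
          _ = U (t s) (u s) (v s) * (U (t s') (u s') (v s'))⁻¹ := by
            rw [hs s, hs s', hss]; group
      have h3 : ((s : H) : G) * ((s' : H) : G)⁻¹ = 1 := by
        apply hcU
        · exact H.mul_mem (s : H).2 (H.inv_mem (s' : H).2)
        · rw [h2]
          exact (uSub D).mul_mem ⟨_, _, _, rfl⟩ ((uSub D).inv_mem ⟨_, _, _, rfl⟩)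
      exact Subtype.ext (Subtype.ext (mul_inv_eq_one.1 h3))
    have h2 := Nat.card_le_card_of_injective a hinj
    rwa [Nat.card_units, Nat.card_eq_fintype_card (α := K), ← hq] at h2
  -- the order of `H`
  have hHcard : T.ncard * (q - 1) < Nat.card H := by
    have h1 : Nat.card ({z : zSub D // z ≠ 1}) = q - 1 := by
      have h2 : Nat.card ({z : zSub D // z ≠ 1}) = ({1}ᶜ : Set (zSub D)).ncard := rfl
      rw [h2, Set.ncard_compl, Set.ncard_singleton, hZ]
    have h2 : ∀ x : T, P (Quotient.out (x : G ⧸ B)) := fun x => x.2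
    let f : Option (T × {z : zSub D // z ≠ 1}) → H := fun y =>
      match y with
      | none => 1
      | some y => ⟨Quotient.out (y.1 : G ⧸ B) * ((y.2 : zSub D) : G) * (Quotient.out (y.1 : G ⧸ B))⁻¹,
          h2 y.1 _ (y.2 : zSub D).2⟩
    have hf1 : ∀ y : T × {z : zSub D // z ≠ 1}, Quotient.out (y.1 : G ⧸ B) * ((y.2 : zSub D) : G) *
        (Quotient.out (y.1 : G ⧸ B))⁻¹ ≠ 1 := by
      intro y h3
      apply y.2.2
      apply Subtype.ext
      change ((y.2 : zSub D) : G) = 1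
      calc ((y.2 : zSub D) : G) = (Quotient.out (y.1 : G ⧸ B))⁻¹ * (Quotient.out (y.1 : G ⧸ B) * ((y.2 : zSub D) : G) *
        (Quotient.out (y.1 : G ⧸ B))⁻¹) * Quotient.out (y.1 : G ⧸ B) := by group
        _ = 1 := by rw [h3]; group
    have hf : Function.Injective f := by
      intro y y' hyy
      rcases y with _ | y <;> rcases y' with _ | y'
      · rfl
      · exact absurd (congrArg Subtype.val hyy).symm (hf1 y')
      · exact absurd (congrArg Subtype.val hyy) (hf1 y)
      · congr 1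
        have h3 : Quotient.out (y.1 : G ⧸ B) * ((y.2 : zSub D) : G) * (Quotient.out (y.1 : G ⧸ B))⁻¹ =
            Quotient.out (y'.1 : G ⧸ B) * ((y'.2 : zSub D) : G) * (Quotient.out (y'.1 : G ⧸ B))⁻¹ :=
          congrArg Subtype.val hyy
        obtain ⟨g, hg⟩ : ∃ g, g = Quotient.out (y.1 : G ⧸ B) := ⟨_, rfl⟩
        obtain ⟨g', hg'⟩ : ∃ g', g' = Quotient.out (y'.1 : G ⧸ B) := ⟨_, rfl⟩
        rw [← hg, ← hg'] at h3
        have h4 : g⁻¹ * g' ∈ B := by
          rw [hB]
          refine mem_bSub_of_inv_conj_mem D (zSub_le D (y.2 : zSub D).2) (fun h5 => y.2.2 (Subtype.ext h5)) ?_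
          have h5 : (g⁻¹ * g')⁻¹ * ((y.2 : zSub D) : G) * (g⁻¹ * g') = ((y'.2 : zSub D) : G) := by
            calc (g⁻¹ * g')⁻¹ * ((y.2 : zSub D) : G) * (g⁻¹ * g') = g'⁻¹ * (g * ((y.2 : zSub D) : G) * g⁻¹) * g' := by
                  group
              _ = ((y'.2 : zSub D) : G) := by rw [h3]; group
          rw [h5]
          exact zSub_le D (y'.2 : zSub D).2
        have h5 : (y.1 : G ⧸ B) = (y'.1 : G ⧸ B) := by
          rw [← QuotientGroup.out_eq' (y.1 : G ⧸ B), ← QuotientGroup.out_eq' (y'.1 : G ⧸ B), ← hg, ← hg']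
          exact QuotientGroup.eq.2 h4
        have h6 : g = g' := by rw [hg, hg', h5]
        rw [h6] at h3
        have h7 := mul_left_cancel (mul_right_cancel h3)
        exact Prod.ext (Subtype.ext h5) (Subtype.ext (Subtype.ext h7))
    have h3 := Nat.card_le_card_of_injective f hf
    rw [Finite.card_option, Nat.card_prod, h1, Nat.card_coe_set_eq] at h3
    omega
  -- the orbit
  have horb := (stabilizer H (c : G ⧸ B)).card_mul_index
  rw [index_stabilizer] at horb
  have h1 : T.ncard < (orbit H (c : G ⧸ B)).ncard := by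
    have h2 : T.ncard * (q - 1) < (orbit H (c : G ⧸ B)).ncard * (q - 1) := by
      calc T.ncard * (q - 1) < Nat.card H := hHcard
        _ = Nat.card (stabilizer H (c : G ⧸ B)) * (orbit H (c : G ⧸ B)).ncard := horb.symm
        _ ≤ (q - 1) * (orbit H (c : G ⧸ B)).ncard := Nat.mul_le_mul_right _ hstab
        _ = _ := mul_comm _ _
    exact Nat.lt_of_mul_lt_mul_right h2
  have h2 : Disjoint T (orbit H (c : G ⧸ B)) := by
    rw [Set.disjoint_left]
    rintro _ hx ⟨k, rfl⟩
    apply hc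
    have h3 : P ((k : G) * c) := (hT _).1 hx
    have h4 := hPH _ _ (H.inv_mem k.2) h3
    rwa [inv_mul_cancel_left] at h4
  have h3 : T.ncard + (orbit H (c : G ⧸ B)).ncard ≤ Nat.card (G ⧸ B) := by
    rw [← Set.ncard_union_eq h2, ← Set.ncard_univ]
    exact Set.ncard_le_ncard (Set.subset_univ _) (Set.toFinite _)
  omega

/-! ### Involutions -/

theorem FS_n (D : Data m U h n) {H : Subgroup G} {a : Kˣ} {p : ℕ} (hp : p.Prime) (hp2 : p ≠ 2) (ha : orderOf a = p) :
    p * (FS (MonoidHom.id G) H n).ncard ≤ Nat.card G + p * (FS (MonoidHom.id G) H (h a)).ncard := by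
  have h1 : orderOf (h a) = p := by
    rw [← ha]
    exact orderOf_injective (MonoidHom.mk' h D.h_mul) (h_injective D) a
  refine FS_dihedral (ι := MonoidHom.id G) (K := H) hp hp2 h1 D.n_n ?_
  rw [D.n_h, mul_assoc, D.n_n, mul_one, D.h_inv]

/-- **The ratio of an involution.** -/
theorem ratio_inv [CharP K 3] (D : Data m U h n) (hK : Fintype.card K = 3 ^ (2 * m + 1)) (hG : commutator G = ⊤)
    {H : Subgroup G} {a : Kˣ} {p : ℕ} (hp : p.Prime) (hp2 : p ≠ 2) (ha : orderOf a = p) {t : G} (ht : orderOf t = 2) :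
    p * (FS (MonoidHom.id G) H t).ncard ≤ Nat.card G + p * (FS (MonoidHom.id G) H (h a)).ncard := by
  obtain ⟨f, t₀, S⟩ := ReeSetup.exists_setup D hK hG (ReeSetup.local_of_data D hK)
  have hn1 : n ≠ 1 := by
    intro h1
    refine D.ne 0 0 0 1 0 0 0 1 0 0 0 ?_
    rw [h1, D.h_one, D.U_zero, one_mul, one_mul, one_mul]
  have ht1 : t ≠ 1 := by
    rintro rfl
    rw [orderOf_one] at ht
    norm_num at ht
  have htt : t * t = 1 := by rw [← pow_two, ← ht, pow_orderOf_eq_one]
  obtain ⟨g, hg⟩ := S.conjG n hn1 D.n_n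
  obtain ⟨g', hg'⟩ := S.conjG t ht1 htt
  have h1 : t = (MonoidHom.id G) (g' * g⁻¹) * n * ((MonoidHom.id G) (g' * g⁻¹))⁻¹ := by
    rw [MonoidHom.id_apply, ← hg', ← hg]
    group
  rw [h1, ncard_FS_conj]
  exact FS_n D hp hp2 ha

/-! ### Elements of order `3` -/

/-- the root subgroup of the middle layer -/
def qSub (D : Data m U h n) : Subgroup G where
  carrier := {g | ∃ u, g = U 0 u 0}
  mul_mem' := by
    rintro _ _ ⟨v, rfl⟩ ⟨w, rfl⟩
    exact ⟨v + w, (D.U_add v w).symm⟩
  one_mem' := ⟨0, D.U_zero.symm⟩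
  inv_mem' := by
    rintro _ ⟨v, rfl⟩
    exact ⟨-v, (D.U_neg v).symm⟩

theorem card_qSub (D : Data m U h n) : Nat.card (qSub D) = Fintype.card K := by
  rw [← Nat.card_eq_fintype_card]
  refine (Nat.card_congr (Equiv.ofBijective (fun v : K => (⟨U 0 v 0, v, rfl⟩ : qSub D)) ⟨?_, ?_⟩)).symm
  · intro v w hvw
    exact (U_injective D (congrArg Subtype.val hvw)).2.1
  · rintro ⟨_, v, rfl⟩
    exact ⟨v, rfl⟩

theorem FS_z_const (D : Data m U h n) (hK : Fintype.card K = 3 ^ (2 * m + 1)) (H : Subgroup G) {v w : K} (hv : v ≠ 0)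
    (hw : w ≠ 0) : (FS (MonoidHom.id G) H (U 0 0 v)).ncard = (FS (MonoidHom.id G) H (U 0 0 w)).ncard := by
  -- `a ↦ a ^ k` is surjective
  have hinj : Function.Injective (powMonoidHom (2 * 3 ^ (m + 1) + 3) : Kˣ →* Kˣ) := by
    rw [injective_iff_map_eq_one]
    intro a ha
    exact ReeTorus.eq_one_of_pow_two_mul_add_three hK a ha
  obtain ⟨a, ha⟩ := Finite.surjective_of_injective hinj (Units.mk0 v hv * (Units.mk0 w hw)⁻¹)
  have ha' : (a : K) ^ (2 * 3 ^ (m + 1) + 3) * w = v := by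
    have h1 := congrArg (fun x : Kˣ => (x : K)) ha
    simp only [powMonoidHom_apply, Units.val_pow_eq_pow_val, Units.val_mul, Units.val_mk0, Units.val_inv_eq_inv_val] at h1
    rw [h1, mul_assoc, inv_mul_cancel₀ hw, mul_one]
  have h1 := D.h_U a 0 0 w
  rw [mul_zero, mul_zero, ha'] at h1
  have h2 : U 0 0 v = (MonoidHom.id G) (h a) * U 0 0 w * ((MonoidHom.id G) (h a))⁻¹ := by
    rw [MonoidHom.id_apply, h1]; group
  rw [h2, ncard_FS_conj]

theorem FS_q_const (D : Data m U h n) (hK : Fintype.card K = 3 ^ (2 * m + 1)) (H : Subgroup G) {v w : K} (hv : v ≠ 0)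
    (hw : w ≠ 0) : (FS (MonoidHom.id G) H (U 0 v 0)).ncard = (FS (MonoidHom.id G) H (U 0 w 0)).ncard := by
  -- squares
  have key : ∀ (b : Kˣ) (w : K), (FS (MonoidHom.id G) H (U 0 ((b : K) * b * w) 0)).ncard =
      (FS (MonoidHom.id G) H (U 0 w 0)).ncard := by
    intro b w
    have h1 := D.h_U (f m b) 0 w 0
    have h3 : ((f m b : Kˣ) : K) ^ (3 ^ (m + 1) + 3) = (b : K) * b := by
      rw [← Units.val_pow_eq_pow_val, f_pow hK, pow_two, Units.val_mul]
    rw [mul_zero, mul_zero, h3] at h1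
    have h2 : U 0 ((b : K) * b * w) 0 = (MonoidHom.id G) (h (f m b)) * U 0 w 0 * ((MonoidHom.id G) (h (f m b)))⁻¹ := by
      rw [MonoidHom.id_apply, h1]; group
    rw [h2, ncard_FS_conj]
  obtain ⟨b, hb | hb⟩ := exists_sq_or_neg hK (Units.mk0 v hv * (Units.mk0 w hw)⁻¹)
  · have h1 : v = (b : K) * b * w := by
      have h2 := congrArg (fun x : Kˣ => (x : K)) hb
      simp only [Units.val_mul, Units.val_mk0, Units.val_inv_eq_inv_val] at h2
      rw [← h2, mul_assoc, inv_mul_cancel₀ hw, mul_one]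
    rw [h1]
    exact key b w
  · have h1 : v = -((b : K) * b * w) := by
      have h2 := congrArg (fun x : Kˣ => (x : K)) hb
      simp only [Units.val_mul, Units.val_mk0, Units.val_inv_eq_inv_val, Units.val_neg] at h2
      rw [← neg_mul, ← h2, mul_assoc, inv_mul_cancel₀ hw, mul_one]
    rw [h1, D.U_neg, ncard_FS_inv]
    exact key b w

theorem two_FSS_q (D : Data m U h n) {H : Subgroup G} (a : Kˣ) :
    2 * (FSS (MonoidHom.id G) H (qSub D : Set G)).ncard ≤ Nat.card G + (FS (MonoidHom.id G) H (h (a * a))).ncard := by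
  classical
  obtain ⟨E, hE⟩ : ∃ E : Set G, E = (fun e => (MonoidHom.id G) n * e * ((MonoidHom.id G) n)⁻¹) '' (qSub D : Set G) :=
    ⟨_, rfl⟩
  have h1 : (FSS (MonoidHom.id G) H E).ncard = (FSS (MonoidHom.id G) H (qSub D : Set G)).ncard := by
    rw [hE]; exact ncard_FSS_conj _ n
  have h2 := Set.ncard_union_add_ncard_inter (FSS (MonoidHom.id G) H (qSub D : Set G)) (FSS (MonoidHom.id G) H E)
  rw [h1] at h2
  have h3 : (FSS (MonoidHom.id G) H (qSub D : Set G) ∪ FSS (MonoidHom.id G) H E).ncard ≤ Nat.card G := by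
    rw [← Set.ncard_univ]
    exact Set.ncard_le_ncard (Set.subset_univ _) (Set.toFinite _)
  have h4 : FSS (MonoidHom.id G) H (qSub D : Set G) ∩ FSS (MonoidHom.id G) H E ⊆
      FS (MonoidHom.id G) H (h (a * a)) := by
    rintro x ⟨hx1, hx2⟩
    -- `h a` acts on both subgroups
    have hQ : ∀ b : Kˣ, ∀ e ∈ qSub D, h b * e * (h b)⁻¹ ∈ qSub D := by
      rintro b _ ⟨u, rfl⟩
      have h5 := D.h_U b 0 u 0
      rw [mul_zero, mul_zero] at h5
      rw [h5, mul_inv_cancel_right]
      exact ⟨_, rfl⟩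
    have hEm : ∀ e ∈ qSub D, n * e * n ∈ E := by
      intro e he
      rw [hE]
      refine ⟨e, he, ?_⟩
      change n * e * n⁻¹ = n * e * n
      rw [D.n_inv]
    have hnE : ∀ b : Kˣ, x ∈ FS (MonoidHom.id G) H (h b * n * (h b)⁻¹) := by
      intro b
      have h5 : h b * n * (h b)⁻¹ = (h b * U 0 1 0 * (h b)⁻¹) * (h b * (n * U 0 1 0 * n) * (h b)⁻¹) *
          (h b * U 0 1 0 * (h b)⁻¹) := by
        have h6 : U 0 1 0 * (n * U 0 1 0 * n) * U 0 1 0 = n := by
          have h7 : U 0 (-1) 0 = (U 0 1 0)⁻¹ := D.U_neg 1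
          rw [D.n_U, h7]
          group
        calc h b * n * (h b)⁻¹ = h b * (U 0 1 0 * (n * U 0 1 0 * n) * U 0 1 0) * (h b)⁻¹ := by rw [h6]
          _ = _ := by group
      rw [h5]
      refine FS_mul (FS_mul ?_ ?_) ?_
      · exact hx1 _ (hQ b _ ⟨1, rfl⟩)
      · have h6 : h b * (n * U 0 1 0 * n) * (h b)⁻¹ = n * (h b⁻¹ * U 0 1 0 * (h b⁻¹)⁻¹) * n := by
          have h7 : h b * n = n * h b⁻¹ := D.n_h' b
          have h8 : n * (h b)⁻¹ = (h b⁻¹)⁻¹ * n := by
            rw [← D.h_inv, D.n_h, D.h_inv (b⁻¹)]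
          calc h b * (n * U 0 1 0 * n) * (h b)⁻¹ = (h b * n) * U 0 1 0 * (n * (h b)⁻¹) := by group
            _ = n * (h b⁻¹ * U 0 1 0 * (h b⁻¹)⁻¹) * n := by rw [h7, h8]; group
        rw [h6]
        exact hx2 _ (hEm _ (hQ _ _ ⟨1, rfl⟩))
      · exact hx1 _ (hQ b _ ⟨1, rfl⟩)
    have h5 : h (a * a) = (h a * n * (h a)⁻¹) * (h 1 * n * (h 1)⁻¹) := by
      have h7 : n * (h a)⁻¹ = h a * n := by
        rw [← D.h_inv, D.n_h, inv_inv]
      rw [D.h_one, one_mul, inv_one, mul_one, mul_assoc (h a), h7, mul_assoc, mul_assoc, D.n_n, mul_one, D.h_mul]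
    rw [h5]
    exact FS_mul (hnE a) (hnE 1)
  have h5 := Set.ncard_le_ncard h4 (Set.toFinite _)
  omega

/-- **The ratio of an element of order `3`.** -/
theorem ratio_three [IsSimpleGroup G] (D : Data m U h n) (hK : Fintype.card K = 3 ^ (2 * m + 1)) {H : Subgroup G}
    (hH : H ≠ ⊤) (a : Kˣ) {z : G} (hz : orderOf z = 3) :
    3 * (FS (MonoidHom.id G) H z).ncard ≤ 2 * Nat.card G + (FS (MonoidHom.id G) H (h (a * a))).ncard := by
  classical
  have hR : IsPGroup 3 (Subgroup.zpowers z) := IsPGroup.of_card (n := 1) (by rw [Nat.card_zpowers, hz, pow_one])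
  obtain ⟨g, hg⟩ := three_le D hK hR
  obtain ⟨t, u, v, htuv⟩ := hg z (Subgroup.mem_zpowers z)
  have hz3 : z ^ 3 = 1 := by rw [← hz, pow_orderOf_eq_one]
  have hz1 : z ≠ 1 := by
    rintro rfl
    rw [orderOf_one] at hz
    norm_num at hz
  have h1 : (g⁻¹ * z * g) ^ 3 = 1 := by
    have := conj_pow (i := 3) (a := g⁻¹) (b := z)
    rw [inv_inv] at this
    rw [this, hz3]; group
  rw [htuv, U_cube D hK, ← D.U_zero] at h1
  have ht : t = 0 := by
    have h2 := (U_injective D h1).2.2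
    rw [neg_eq_zero] at h2
    rcases mul_eq_zero.1 h2 with h3 | h3
    · exact pow_eq_zero_iff (two_ne_zero) |>.1 h3
    · exact pow_eq_zero_iff (by positivity) |>.1 h3
  subst ht
  have hzc : (FS (MonoidHom.id G) H z).ncard = (FS (MonoidHom.id G) H (U 0 u v)).ncard := by
    rw [← htuv]
    have h2 : g⁻¹ * z * g = (MonoidHom.id G) g⁻¹ * z * ((MonoidHom.id G) g⁻¹)⁻¹ := by
      rw [MonoidHom.id_apply, inv_inv]
    rw [h2, ncard_FS_conj]
  rw [hzc]
  by_cases hu : u = 0
  · subst hu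
    have hv : v ≠ 0 := by
      rintro rfl
      rw [D.U_zero] at htuv
      apply hz1
      calc z = g * (g⁻¹ * z * g) * g⁻¹ := by group
        _ = 1 := by rw [htuv]; group
    have h2 := FS_elem (ι := MonoidHom.id G) (K := H) (zSub D) (f := 2 * m + 1) (by omega)
      (by rw [card_zSub, hK]) (a := (FS (MonoidHom.id G) H (U 0 0 v)).ncard) (by
        rintro _ ⟨w, rfl⟩ hw
        exact FS_z_const D hK H (fun h0 => hw (by rw [h0, D.U_zero])) hv)
    have h3 := two_FSS_z D hK hH
    omega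
  · -- conjugate to `U 0 u 0`
    have h4 : U 0 u 0 = (MonoidHom.id G) (U (-v / u) 0 0) * U 0 u v * ((MonoidHom.id G) (U (-v / u) 0 0))⁻¹ := by
      rw [MonoidHom.id_apply, eq_mul_inv_iff_mul_eq, D.U_mul, D.U_mul]
      have h0 : (0 : K) ^ (3 ^ (m + 1)) = 0 := zero_pow (by positivity)
      simp only [h0]
      congr 1
      · ring
      · ring
      · field_simp
        ring
    have h5 : (FS (MonoidHom.id G) H (U 0 u v)).ncard = (FS (MonoidHom.id G) H (U 0 u 0)).ncard := by
      rw [h4, ncard_FS_conj]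
    rw [h5]
    have h2 := FS_elem (ι := MonoidHom.id G) (K := H) (qSub D) (f := 2 * m + 1) (by omega)
      (by rw [card_qSub, hK]) (a := (FS (MonoidHom.id G) H (U 0 u 0)).ncard) (by
        rintro _ ⟨w, rfl⟩ hw
        exact FS_q_const D hK H (fun h0 => hw (by rw [h0, D.U_zero])) hu)
    have h3 := two_FSS_q D (H := H) a
    omega

end Cfsg.Agent.H452.RG.ReeD
end

-- part: H452/RG/SzOuter
section
/-!
# Outer automorphisms of prime order of the Suzuki groups

* `sz_outer` : an outer automorphism of prime order `p` of `Sz(2^(2m+1))` has `p` odd, `p ∣ 2m+1`, and at most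
  `32^((2m+1)/p)` fixed points.
-/

set_option autoImplicit false

namespace Cfsg.Agent.H452.RG

open Cfsg.Agent.H28.T5RankOne Cfsg.Agent.H967.CopMat Cfsg.Agent.H975.FieldDef
open Cfsg.Agent.LieRecognition.SzMatrix Cfsg.Agent.H967.CopSz Cfsg.Agent.H967.CopFix
open Cfsg.Agent.H270.StrP (sz_fixed)

/-- the order of `Sz(q)`, including `Sz(2)` -/
theorem card_sz_all {F : Type*} [Field F] [Fintype F] {m : ℕ} (hF : Fintype.card F = 2 ^ (2 * m + 1)) :
    Nat.card ↥(Cfsg.Lie.Sz F (2 ^ (m + 1))) =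
      (2 ^ (2 * m + 1)) ^ 2 * (2 ^ (2 * m + 1) - 1) * ((2 ^ (2 * m + 1)) ^ 2 + 1) := by
  have H := good hF
  have D := Cfsg.Agent.S1163.data_sz H
  have hcF : Nat.card F = 2 ^ (2 * m + 1) := by rw [Nat.card_eq_fintype_card, hF]
  have : Finite ↥(Cfsg.Lie.Sz F (2 ^ (m + 1))) := inferInstance
  have hcu : Nat.card H.unip = (2 ^ (2 * m + 1)) ^ 2 := by rw [H.card_unip, hcF]
  have hcb : Nat.card H.borel = (2 ^ (2 * m + 1)) ^ 2 * (2 ^ (2 * m + 1) - 1) := by
    rw [H.card_borel, hcF]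
  have hidx : H.borel.index = (2 ^ (2 * m + 1)) ^ 2 + 1 := by rw [D.index, hcu]
  rw [← Subgroup.card_mul_index H.borel, hcb, hidx]

theorem card_sz_le {F : Type*} [Field F] [Fintype F] {m : ℕ} (hF : Fintype.card F = 2 ^ (2 * m + 1)) :
    Nat.card ↥(Cfsg.Lie.Sz F (2 ^ (m + 1))) ≤ 32 ^ (2 * m + 1) := by
  rw [card_sz_all hF]
  have h1 : (32 : ℕ) ^ (2 * m + 1) = (2 ^ (2 * m + 1)) ^ 5 := by
    rw [← pow_mul, mul_comm (2 * m + 1) 5, pow_mul]
    norm_num
  rw [h1]
  obtain ⟨q, hq⟩ : ∃ q, q = 2 ^ (2 * m + 1) := ⟨_, rfl⟩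
  rw [← hq]
  have hq1 : 1 ≤ q := by rw [hq]; exact Nat.one_le_two_pow
  obtain ⟨t, ht⟩ : ∃ t, q = t + 1 := ⟨q - 1, by omega⟩
  have h2 : (q - 1) * (q ^ 2 + 1) ≤ q ^ 3 := by
    rw [ht, Nat.add_sub_cancel]
    nlinarith only []
  calc q ^ 2 * (q - 1) * (q ^ 2 + 1) = q ^ 2 * ((q - 1) * (q ^ 2 + 1)) := by ring
    _ ≤ q ^ 2 * q ^ 3 := Nat.mul_le_mul_left _ h2
    _ = q ^ 5 := by ring

theorem pow_odd_eq {M : Type*} [Monoid M] {a : M} (h : a ^ 2 = 1) (n : ℕ) : a ^ (2 * n + 1) = a := by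
  rw [pow_succ, pow_mul, h, one_pow, one_mul]

/-- powers of `conj g * Φ σ` -/
theorem pow_form {Y R : Type*} [Group Y] [Group R] (Φ : R →* MulAut Y) (g : Y) (σ : R) (n : ℕ) :
    ∃ h : Y, (MulAut.conj g * Φ σ) ^ n = MulAut.conj h * Φ (σ ^ n) := by
  induction n with
  | zero => exact ⟨1, by simp⟩
  | succ n ih =>
    obtain ⟨h, hh⟩ := ih
    refine ⟨h * Φ (σ ^ n) g, ?_⟩
    rw [pow_succ, hh]
    rw [map_mul, pow_succ, map_mul, ← mul_assoc]
    have h1 : Φ (σ ^ n) * MulAut.conj g = MulAut.conj (Φ (σ ^ n) g) * Φ (σ ^ n) := by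
      ext y
      simp only [MulAut.mul_apply, MulAut.conj_apply, _root_.map_pow, _root_.map_mul, _root_.map_inv]
    calc MulAut.conj h * Φ (σ ^ n) * MulAut.conj g * Φ σ = MulAut.conj h * (Φ (σ ^ n) * MulAut.conj g) * Φ σ := by
          rw [mul_assoc (MulAut.conj h)]
      _ = _ := by rw [h1, mul_assoc, mul_assoc, mul_assoc]

/-- Outer automorphisms of prime order: data. -/
def SzO (m : ℕ) (S : Type*) [Group S] : Prop :=
  ∀ (p : ℕ) (a : MulAut S), p.Prime → a ^ p = 1 → (¬ ∃ g, a = MulAut.conj g) →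
    3 ≤ p ∧ p ∣ 2 * m + 1 ∧ Nat.card {s : S // a s = s} ≤ 32 ^ ((2 * m + 1) / p)

theorem szO_model {F : Type} [Field F] [Fintype F] {m : ℕ} (hm : 1 ≤ m) (hF : Fintype.card F = 2 ^ (2 * m + 1)) :
    SzO m ↥(Cfsg.Lie.Sz F (2 ^ (m + 1))) := by
  classical
  intro p a hp hap hout
  have hpf : Fact p.Prime := ⟨hp⟩
  have hcyc : IsCyclic (F ≃+* F) := LieRecognition.FieldSemilinear.isCyclic_ringAut F
  have hfinR := finite_ringAut F
  have ha1 : a ≠ 1 := by
    rintro rfl
    exact hout ⟨1, by simp⟩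
  have hao : orderOf a = p := orderOf_eq_prime hap ha1
  have hp2 : p ≠ 2 := by
    rintro rfl
    -- `a ^ (2m+1)` is inner
    obtain ⟨g, σ, h⟩ := Cfsg.Agent.H70.SzAutThm.exists_conj_field hm hF a
    have h' : a = MulAut.conj g * fieldAut (stab_sz hF) σ := h
    obtain ⟨k, hk⟩ := pow_form (fieldAut (stab_sz hF)) g σ (2 * m + 1)
    apply hout
    have hσ : σ ^ (2 * m + 1) = 1 := by
      have h1 := card_Fx σ
      rw [Nat.card_eq_fintype_card, hF] at h1
      have h2 : Nat.card ↥(Fx σ) ∣ 2 ^ (2 * m + 1) := by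
        rw [h1]
        exact dvd_pow_self _ (orderOf_pos σ).ne'
      obtain ⟨i, -, hi⟩ := (Nat.dvd_prime_pow Nat.prime_two).1 h2
      rw [hi, ← pow_mul] at h1
      have h3 := Nat.pow_right_injective (le_refl 2) h1
      apply orderOf_dvd_iff_pow_eq_one.1
      exact ⟨i, h3.trans (mul_comm _ _)⟩
    refine ⟨k, ?_⟩
    rw [hσ, map_one, mul_one, ← h'] at hk
    exact (pow_odd_eq hap m).symm.trans hk
  obtain ⟨σ, hσ, g, hg⟩ := (sz_data hm hF hp2).form hao hout
  obtain ⟨m₀, j, h1, h2, h3, -⟩ := sz_exp hm hF hp2 hσ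
  obtain ⟨f, hf, hfix⟩ := sz_fixed hF σ h1 h2
  have hfinE : Fintype ↥(Fx σ) := Fintype.ofFinite _
  have hE' : Fintype.card ↥(Fx σ) = 2 ^ (2 * m₀ + 1) := by rw [← Nat.card_eq_fintype_card, h1]
  refine ⟨?_, ⟨2 * m₀ + 1, by rw [h3, mul_comm]⟩, ?_⟩
  · have := hp.two_le
    omega
  have h4 : (2 * m + 1) / p = 2 * m₀ + 1 := by
    rw [h3]
    exact Nat.mul_div_cancel _ hp.pos
  rw [h4]
  have h5 : Nat.card {s : ↥(Cfsg.Lie.Sz F (2 ^ (m + 1))) // a s = s} =
      Nat.card {s : ↥(Cfsg.Lie.Sz F (2 ^ (m + 1))) // fieldAut (stab_sz hF) σ s = s} := by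
    refine Nat.card_congr (Equiv.subtypeEquiv (MulAut.conj g)⁻¹.toEquiv fun s => ?_)
    change a s = s ↔ fieldAut (stab_sz hF) σ ((MulAut.conj g)⁻¹ s) = (MulAut.conj g)⁻¹ s
    rw [hg]
    change MulAut.conj g (fieldAut (stab_sz hF) σ ((MulAut.conj g)⁻¹ s)) = s ↔ _
    obtain ⟨y, hy⟩ : ∃ y, y = (MulAut.conj g)⁻¹ s := ⟨_, rfl⟩
    have hs : s = MulAut.conj g y := by rw [hy]; exact ((MulAut.conj g).apply_symm_apply s).symm
    rw [← hy]
    conv_lhs => rw [hs]
    exact (MulAut.conj g).injective.eq_iff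
  rw [h5, Nat.card_congr (Equiv.subtypeEquivRight hfix)]
  have h9 : Nat.card ↥f.range = Nat.card ↥(Cfsg.Lie.Sz ↥(Fx σ) (2 ^ (m₀ + 1))) :=
    (Nat.card_congr (MonoidHom.ofInjective hf).toEquiv).symm
  exact (le_of_eq h9).trans (card_sz_le hE')

theorem SzO.congr {m : ℕ} {S S' : Type*} [Group S] [Group S'] (e : S ≃* S') (h : SzO m S) : SzO m S' := by
  intro p a hp hap hout
  let b : MulAut S := (e.trans a).trans e.symm
  have hb : ∀ n : ℕ, ∀ s, (b ^ n) s = e.symm ((a ^ n) (e s)) := by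
    intro n
    induction n with
    | zero => intro s; simp
    | succ n ih =>
      intro s
      rw [pow_succ, MulAut.mul_apply, ih, pow_succ, MulAut.mul_apply]
      change e.symm ((a ^ n) (e (e.symm (a (e s))))) = _
      rw [e.apply_symm_apply]
  have hbp : b ^ p = 1 := by
    ext s
    rw [hb, hap]
    simp
  obtain ⟨h1, h2, h3⟩ := h p b hp hbp (by
    rintro ⟨g, hg⟩
    apply hout
    refine ⟨e g, ?_⟩
    ext s
    have h1 := congrArg (fun c : MulAut S => e (c (e.symm s))) hg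
    simp only [MulAut.conj_apply, map_mul, map_inv, e.apply_symm_apply] at h1
    have h2 : e (b (e.symm s)) = a s := by
      change e (e.symm (a (e (e.symm s)))) = a s
      simp
    rw [h2] at h1
    rw [h1, MulAut.conj_apply])
  refine ⟨h1, h2, le_trans (le_of_eq ?_) h3⟩
  refine Nat.card_congr (Equiv.subtypeEquiv e.symm.toEquiv fun s => ?_)
  change a s = s ↔ e.symm (a (e (e.symm s))) = e.symm s
  simp

theorem szO {S : Type*} [Group S] {F : Type} [Field F] [Fintype F] {m : ℕ}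
    (hm : 1 ≤ m) (hF : Fintype.card F = 2 ^ (2 * m + 1)) (e : S ≃* ↥(Cfsg.Lie.Sz F (2 ^ (m + 1)))) : SzO m S :=
  SzO.congr e.symm (szO_model hm hF)

end Cfsg.Agent.H452.RG
end

-- part: H452/RG/ReeOuter
section
/-!
# Outer automorphisms of prime order of the Ree groups

* `ReeO m S`; `reeO` : a Ree group satisfies `ReeO m`.
-/

set_option autoImplicit false
open Subgroup MulAction
open scoped Pointwise

namespace Cfsg.Agent.H452.RG

open Cfsg.Agent.H28.T5RankOne Cfsg.Agent.H967.CopMat Cfsg.Agent.H975.FieldDef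
open Cfsg.Lie Cfsg.Agent.ChevalleyStructure Cfsg.Agent.H967.CopSz Cfsg.Agent.H967.CopFix
open Cfsg.Agent.H270.StrP (ree_fixed)
open Cfsg.Agent.LieRecognition

/-- Outer automorphisms of prime order: data. -/
def ReeO (m : ℕ) (S : Type*) [Group S] : Prop :=
  ∀ (p : ℕ) (a : MulAut S), p.Prime → a ^ p = 1 → (¬ ∃ g, a = MulAut.conj g) →
    (p = 3 ∧ ∃ (g : S) (l : ℕ), l.Prime ∧ 5 ≤ l ∧ l ∣ orderOf (g⁻¹ * a g)) ∨
    (5 ≤ p ∧ p ∣ 2 * m + 1 ∧ Nat.card {s : S // a s = s} ≤ 2187 ^ ((2 * m + 1) / p))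

theorem card_ree_le {K : Type*} [Field K] [Fintype K] {m : ℕ} (hK : Fintype.card K = 3 ^ (2 * m + 1)) :
    Nat.card ↥(twistedG2 K (3 ^ m)) ≤ 2187 ^ (2 * m + 1) := by
  rw [Cfsg.Agent.S1069.result hK]
  have h1 : (2187 : ℕ) ^ (2 * m + 1) = (3 ^ (2 * m + 1)) ^ 7 := by
    rw [← pow_mul, mul_comm (2 * m + 1) 7, pow_mul]
    norm_num
  rw [h1]
  obtain ⟨q, hq⟩ : ∃ q, q = 3 ^ (2 * m + 1) := ⟨_, rfl⟩
  rw [← hq]
  have hq1 : 3 ≤ q := by rw [hq]; exact Nat.le_self_pow (by omega) 3
  obtain ⟨t, ht⟩ : ∃ t, q = t + 1 := ⟨q - 1, by omega⟩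
  have h2 : (q - 1) * (q ^ 3 + 1) ≤ q ^ 4 := by
    have h3 : (q - 1) * (q ^ 3 + 1) + (q ^ 3 - q + 1) = q ^ 4 := by
      have h4 : q ≤ q ^ 3 := Nat.le_self_pow (by norm_num) q
      zify [h4, (by omega : 1 ≤ q)]
      ring
    omega
  calc q ^ 3 * (q - 1) * (q ^ 3 + 1) = q ^ 3 * ((q - 1) * (q ^ 3 + 1)) := by ring
    _ ≤ q ^ 3 * q ^ 4 := Nat.mul_le_mul_left _ h2
    _ = q ^ 7 := by ring

/-- odd prime divisors of the order of a unit -/
theorem exists_prime_unit {K : Type*} [Field K] [Fintype K] {m : ℕ} (hK : Fintype.card K = 3 ^ (2 * m + 1)) {e : Kˣ}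
    (he1 : e ≠ 1) (he2 : e ≠ -1) : ∃ l : ℕ, l.Prime ∧ 5 ≤ l ∧ l ∣ orderOf e := by
  have h8 := ReeAbs.three_pow_odd_mod m
  obtain ⟨q, hq⟩ : ∃ q, q = 3 ^ (2 * m + 1) := ⟨_, rfl⟩
  rw [← hq] at h8 hK
  have h3q : 3 ∣ q := hq ▸ dvd_pow_self 3 (by omega)
  have hq1 : e ^ (q - 1) = 1 := by
    have h1 : Nat.card Kˣ = q - 1 := by rw [Nat.card_units, Nat.card_eq_fintype_card, hK]
    rw [← h1]
    exact pow_card_eq_one'
  have hsq : e ^ 2 ≠ 1 := by
    intro h
    rcases ReeSplit.eq_one_or_neg_one_of_sq h with h | h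
    · exact he1 h
    · exact he2 h
  have h2 : (e ^ 2) ^ ((q - 1) / 2) = 1 := by
    rw [← pow_mul]
    have : 2 * ((q - 1) / 2) = q - 1 := by (clear * - h8; omega)
    rw [this, hq1]
  obtain ⟨l, hl, hle⟩ := Nat.exists_prime_and_dvd (n := orderOf (e ^ 2)) (fun h => hsq (orderOf_eq_one_iff.1 h))
  refine ⟨l, hl, ?_, hle.trans (orderOf_pow_dvd 2)⟩
  have h3 : l ∣ (q - 1) / 2 := hle.trans (orderOf_dvd_of_pow_eq_one h2)
  have h4 := hl.two_le
  have h5 : l ≠ 2 := by
    rintro rfl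
    (clear * - h8 h3; omega)
  have h6 : l ≠ 3 := by
    rintro rfl
    omega
  have h7 : l ≠ 4 := by
    rintro rfl
    exact absurd hl (by norm_num)
  omega

/-- a nontrivial field automorphism moves some element to something else than `± c` -/
theorem exists_move_unit {K : Type*} [Field K] (h2 : (2 : K) ≠ 0) {τ : K ≃+* K} (hτ : τ ≠ 1) :
    ∃ c : Kˣ, (Units.mapEquiv τ.toMulEquiv c) ≠ c ∧ (Units.mapEquiv τ.toMulEquiv c) ≠ -c := by
  by_contra hno
  push Not at hno
  apply hτ
  ext x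
  change τ x = x
  by_cases hx : x = 0
  · rw [hx, map_zero]
  have key : ∀ y : K, y ≠ 0 → τ y = y ∨ τ y = -y := by
    intro y hy
    by_cases h1 : (Units.mapEquiv τ.toMulEquiv (Units.mk0 y hy)) = Units.mk0 y hy
    · left
      exact congrArg (fun z : Kˣ => (z : K)) h1
    · right
      exact congrArg (fun z : Kˣ => (z : K)) (hno _ h1)
  rcases key x hx with h1 | h1
  · exact h1
  exfalso
  by_cases hx1 : 1 + x = 0
  · have h3 : x = -1 := by linear_combination hx1
    rw [h3, map_neg, map_one, neg_neg] at h1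
    apply h2
    linear_combination -h1
  · rcases key (1 + x) hx1 with h3 | h3
    · rw [map_add, map_one, h1] at h3
      apply mul_ne_zero h2 hx
      linear_combination -h3
    · rw [map_add, map_one, h1] at h3
      apply h2
      linear_combination h3

section Three

variable {K : Type*} [Field K] [Fintype K] {m : ℕ}

theorem outer_three (hm : 1 ≤ m) (hK : Fintype.card K = 3 ^ (2 * m + 1)) (a : MulAut ↥(twistedG2 K (3 ^ m)))
    (ha3 : a ^ 3 = 1) (hout : ¬ ∃ g, a = MulAut.conj g) :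
    ∃ (g : ↥(twistedG2 K (3 ^ m))) (l : ℕ), l.Prime ∧ 5 ≤ l ∧ l ∣ orderOf (g⁻¹ * a g) := by
  classical
  have hf3 : Fact (Nat.Prime 3) := ⟨Nat.prime_three⟩
  have hch := ReeAbs.charP_three hK
  obtain ⟨θ, c⟩ := Ree.Normal.exists_ctx hK
  have D := Ree.Data.data c
  have F := Cfsg.Agent.H71.FldAut.reeFld c
  have hfin : Finite ↥(twistedG2 K (3 ^ m)) := ReeSylowThree.finite D
  have Dl := ReeSetup.local_of_data D hK
  -- a fixed Sylow subgroup
  have hpa : IsPGroup 3 (zpowers a) := by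
    have h1 : orderOf a ∣ 3 ^ 1 := by rw [pow_one]; exact orderOf_dvd_of_pow_eq_one ha3
    obtain ⟨j, -, hj⟩ := (Nat.dvd_prime_pow Nat.prime_three).1 h1
    exact IsPGroup.of_card (n := j) (by rw [Nat.card_zpowers, hj])
  have hcs : ¬ 3 ∣ Nat.card (Sylow 3 ↥(twistedG2 K (3 ^ m))) := by
    have h1 := card_sylow_modEq_one 3 ↥(twistedG2 K (3 ^ m))
    intro h2
    have h3 : Nat.card (Sylow 3 ↥(twistedG2 K (3 ^ m))) % 3 = 1 % 3 := h1
    omega
  obtain ⟨P, hP⟩ := hpa.nonempty_fixed_point_of_prime_not_dvd_card (Sylow 3 ↥(twistedG2 K (3 ^ m))) hcs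
  have hPa : a • P = P := hP ⟨a, mem_zpowers a⟩
  have haP : ∀ x ∈ (P : Subgroup ↥(twistedG2 K (3 ^ m))), a x ∈ (P : Subgroup ↥(twistedG2 K (3 ^ m))) := by
    intro x hx
    have h1 : a • x ∈ ((a • P : Sylow 3 ↥(twistedG2 K (3 ^ m))) : Subgroup ↥(twistedG2 K (3 ^ m))) :=
      Subgroup.smul_mem_pointwise_smul x a (P : Subgroup ↥(twistedG2 K (3 ^ m))) hx
    rw [hPa] at h1
    exact h1
  obtain ⟨g, hg⟩ := ReeD.three_le D hK P.2
  -- `P = g U g⁻¹`
  have hgP : ∀ x ∈ ReeSylowThree.uSub D, g * x * g⁻¹ ∈ (P : Subgroup ↥(twistedG2 K (3 ^ m))) := by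
    have h1 : IsPGroup 3 ((ReeSylowThree.uSub D).map (MulAut.conj g).toMonoidHom) := by
      apply IsPGroup.map
      apply IsPGroup.of_card (n := 3 * (2 * m + 1))
      rw [ReeSylowThree.card_uSub D, hK, ← pow_mul, mul_comm]
    have h2 : (P : Subgroup ↥(twistedG2 K (3 ^ m))) ≤ (ReeSylowThree.uSub D).map (MulAut.conj g).toMonoidHom := by
      intro x hx
      refine ⟨g⁻¹ * x * g, hg x hx, ?_⟩
      change g * (g⁻¹ * x * g) * g⁻¹ = x
      group
    have h3 := P.is_maximal' h1 h2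
    intro x hx
    have h4 : g * x * g⁻¹ ∈ (ReeSylowThree.uSub D).map (MulAut.conj g).toMonoidHom := ⟨x, hx, rfl⟩
    rw [h3] at h4
    exact h4
  obtain ⟨b, hb⟩ : ∃ b : MulAut ↥(twistedG2 K (3 ^ m)), b = (MulAut.conj g)⁻¹ * a * MulAut.conj g := ⟨_, rfl⟩
  have hbx : ∀ x, b x = g⁻¹ * a (g * x * g⁻¹) * g := by
    intro x
    rw [hb, MulAut.mul_apply, MulAut.mul_apply, MulAut.conj_apply, ← map_inv, MulAut.conj_apply, inv_inv]
  have hbU : ∀ x ∈ ReeSylowThree.uSub D, b x ∈ ReeSylowThree.uSub D := by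
    intro x hx
    rw [hbx]
    exact hg _ (haP _ (hgP x hx))
  obtain ⟨g₀, τ, hbτ⟩ := Cfsg.Agent.H71.FldAut.ree_aut hm hK b
  have hbv : ∀ x, b x = g₀ * S2127.fld τ (3 ^ m) x * g₀⁻¹ := by
    intro x
    rw [hbτ, MulAut.mul_apply, MulAut.conj_apply]
  -- `g₀ ∈ B`
  have hg₀ : g₀ ∈ ReeSplit.bSub D := by
    rw [← inv_inv g₀]
    apply (ReeSplit.bSub D).inv_mem
    have h1 : (S2127.fld τ (3 ^ m)) (Ree.Data.U K (3 ^ m) 0 0 1) = Ree.Data.U K (3 ^ m) 0 0 1 := by
      rw [F.onU, map_zero, map_one]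
    refine ReeSplit.mem_bSub_of_inv_conj_mem D (x := Ree.Data.U K (3 ^ m) 0 0 1) ⟨0, 0, 1, rfl⟩ ?_ ?_
    · intro h2
      rw [← D.U_zero] at h2
      exact one_ne_zero (ReeSylowThree.U_injective D h2).2.2
    · have h2 := hbU _ (⟨0, 0, 1, rfl⟩ : Ree.Data.U K (3 ^ m) 0 0 1 ∈ ReeSylowThree.uSub D)
      rw [hbv, h1] at h2
      rwa [inv_inv]
  have hτ : τ ≠ 1 := by
    rintro rfl
    apply hout
    refine ⟨g * g₀ * g⁻¹, ?_⟩
    have h1 : S2127.fld (1 : K ≃+* K) (3 ^ m) = 1 := by
      ext x : 1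
      apply Subtype.ext
      apply Units.ext
      rw [Cfsg.Agent.H71.FldAut.coe_fldG]
      ext i j
      rfl
    rw [h1, mul_one, hb] at hbτ
    have h2 : a = MulAut.conj g * ((MulAut.conj g)⁻¹ * a * MulAut.conj g) * (MulAut.conj g)⁻¹ := by group
    rw [h2, hbτ, map_mul, map_mul, map_inv]
  obtain ⟨t, u, v, d, hd⟩ := hg₀
  obtain ⟨k, hk1, hk2⟩ := exists_move_unit (ReePSL.two_ne (K := K)) hτ
  obtain ⟨k', hk'⟩ : ∃ k', k' = Units.mapEquiv τ.toMulEquiv k := ⟨_, rfl⟩
  rw [← hk'] at hk1 hk2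
  obtain ⟨l, hl, hl5, hlk⟩ := exists_prime_unit hK (e := k⁻¹ * k') (fun h => hk1 (inv_mul_eq_one.1 h).symm) (fun h => by
    apply hk2
    have h1 : k' = k * (k⁻¹ * k') := by group
    rw [h1, h]
    simp)
  -- the element of the Borel subgroup
  have h1 : ∃ t' u' v', (Ree.Data.T c k)⁻¹ * b (Ree.Data.T c k) =
      Ree.Data.U K (3 ^ m) t' u' v' * Ree.Data.T c (k⁻¹ * k') := by
    obtain ⟨t1, u1, v1, e1⟩ := ReeSylowThree.U_inv D t u v
    obtain ⟨t2, u2, v2, e2⟩ := ReeD.b_mul D 0 0 0 k⁻¹ t u v k'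
    obtain ⟨t3, u3, v3, e3⟩ := ReeD.b_mul D t2 u2 v2 (k⁻¹ * k') t1 u1 v1 1
    refine ⟨t3, u3, v3, ?_⟩
    rw [hbv, F.onH, ← hk', hd, ← D.h_inv]
    have e4 : Ree.Data.U K (3 ^ m) t u v * Ree.Data.T c d * Ree.Data.T c k' *
        (Ree.Data.U K (3 ^ m) t u v * Ree.Data.T c d)⁻¹ =
        Ree.Data.U K (3 ^ m) t u v * Ree.Data.T c k' * (Ree.Data.U K (3 ^ m) t u v)⁻¹ := by
      have e5 : Ree.Data.T c d * Ree.Data.T c k' = Ree.Data.T c k' * Ree.Data.T c d := D.h_comm d k'
      calc Ree.Data.U K (3 ^ m) t u v * Ree.Data.T c d * Ree.Data.T c k' *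
          (Ree.Data.U K (3 ^ m) t u v * Ree.Data.T c d)⁻¹ = Ree.Data.U K (3 ^ m) t u v *
          (Ree.Data.T c d * Ree.Data.T c k') * (Ree.Data.T c d)⁻¹ * (Ree.Data.U K (3 ^ m) t u v)⁻¹ := by group
        _ = _ := by rw [e5]; group
    rw [e4, e1]
    rw [D.U_zero, one_mul] at e2
    rw [D.h_one, mul_one, mul_one] at e3
    rw [← mul_assoc, e2, e3]
  obtain ⟨t', u', v', h2⟩ := h1
  refine ⟨g * Ree.Data.T c k * g⁻¹, l, hl, hl5, ?_⟩
  have h3 : (g * Ree.Data.T c k * g⁻¹)⁻¹ * a (g * Ree.Data.T c k * g⁻¹) =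
      MulAut.conj g ((Ree.Data.T c k)⁻¹ * b (Ree.Data.T c k)) := by
    rw [hbx, MulAut.conj_apply]
    group
  have h4 : orderOf (MulAut.conj g ((Ree.Data.T c k)⁻¹ * b (Ree.Data.T c k))) =
      orderOf ((Ree.Data.T c k)⁻¹ * b (Ree.Data.T c k)) :=
    orderOf_injective (MulAut.conj g).toMonoidHom (MulAut.conj g).injective _
  rw [h3, h4, h2]
  exact hlk.trans (ReeD.b_order D t' u' v' (k⁻¹ * k'))

end Three

theorem reeO_model {K : Type} [Field K] [Fintype K] {m : ℕ} (hm : 1 ≤ m) (hK : Fintype.card K = 3 ^ (2 * m + 1)) :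
    ReeO m ↥(twistedG2 K (3 ^ m)) := by
  classical
  intro p a hp hap hout
  have hpf : Fact p.Prime := ⟨hp⟩
  have hcyc : IsCyclic (K ≃+* K) := LieRecognition.FieldSemilinear.isCyclic_ringAut K
  have hfinR := finite_ringAut K
  have hfin : Finite ↥(twistedG2 K (3 ^ m)) := by
    obtain ⟨U, h, n, D⟩ := Cfsg.Agent.ChevalleyStructure.Ree.Data.exists_data (K := K) hK
    exact ReeSylowThree.finite D
  have ha1 : a ≠ 1 := by
    rintro rfl
    exact hout ⟨1, by simp⟩
  have hao : orderOf a = p := orderOf_eq_prime hap ha1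
  have hp2 : p ≠ 2 := by
    rintro rfl
    -- `a ^ (2m+1)` is inner
    obtain ⟨g, σ, h⟩ := Cfsg.Agent.H71.FldAut.ree_aut hm hK a
    have h' : a = MulAut.conj g * fieldAut (stab_g2 (K := K) (3 ^ m)) σ := h
    obtain ⟨k, hk⟩ := pow_form (fieldAut (stab_g2 (K := K) (3 ^ m))) g σ (2 * m + 1)
    apply hout
    have hσ : σ ^ (2 * m + 1) = 1 := by
      have h1 := card_Fx σ
      rw [Nat.card_eq_fintype_card, hK] at h1
      have h2 : Nat.card ↥(Fx σ) ∣ 3 ^ (2 * m + 1) := by
        rw [h1]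
        exact dvd_pow_self _ (orderOf_pos σ).ne'
      obtain ⟨i, -, hi⟩ := (Nat.dvd_prime_pow Nat.prime_three).1 h2
      rw [hi, ← pow_mul] at h1
      have h3 := Nat.pow_right_injective (by norm_num : 2 ≤ 3) h1
      apply orderOf_dvd_iff_pow_eq_one.1
      exact ⟨i, h3.trans (mul_comm _ _)⟩
    refine ⟨k, ?_⟩
    rw [hσ, map_one, mul_one, ← h'] at hk
    exact (pow_odd_eq hap m).symm.trans hk
  by_cases hp3 : p = 3
  · left
    subst hp3
    exact ⟨rfl, outer_three hm hK a hap hout⟩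
  right
  have hp5 : 5 ≤ p := by
    have := hp.two_le
    have h4 : p ≠ 4 := by
      rintro rfl
      exact absurd hp (by norm_num)
    omega
  obtain ⟨σ, hσ, g, hg⟩ := (ree_data hm hK hp5).form hao hout
  obtain ⟨m₀, j, h1, h2, h3⟩ := ree_exp hm hK hp5 hσ
  obtain ⟨f, hf, hfix⟩ := ree_fixed hK σ h1 h2
  have hfinE : Fintype ↥(Fx σ) := Fintype.ofFinite _
  have hE' : Fintype.card ↥(Fx σ) = 3 ^ (2 * m₀ + 1) := by rw [← Nat.card_eq_fintype_card, h1]
  refine ⟨hp5, ⟨2 * m₀ + 1, by rw [h3, mul_comm]⟩, ?_⟩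
  have h4 : (2 * m + 1) / p = 2 * m₀ + 1 := by
    rw [h3]
    exact Nat.mul_div_cancel _ hp.pos
  rw [h4]
  have h5 : Nat.card {s : ↥(twistedG2 K (3 ^ m)) // a s = s} =
      Nat.card {s : ↥(twistedG2 K (3 ^ m)) // fieldAut (stab_g2 (K := K) (3 ^ m)) σ s = s} := by
    refine Nat.card_congr (Equiv.subtypeEquiv (MulAut.conj g)⁻¹.toEquiv fun s => ?_)
    change a s = s ↔ fieldAut (stab_g2 (K := K) (3 ^ m)) σ ((MulAut.conj g)⁻¹ s) = (MulAut.conj g)⁻¹ s
    rw [hg]
    change MulAut.conj g (fieldAut (stab_g2 (K := K) (3 ^ m)) σ ((MulAut.conj g)⁻¹ s)) = s ↔ _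
    obtain ⟨y, hy⟩ : ∃ y, y = (MulAut.conj g)⁻¹ s := ⟨_, rfl⟩
    have hs : s = MulAut.conj g y := by rw [hy]; exact ((MulAut.conj g).apply_symm_apply s).symm
    rw [← hy]
    conv_lhs => rw [hs]
    exact (MulAut.conj g).injective.eq_iff
  rw [h5, Nat.card_congr (Equiv.subtypeEquivRight hfix)]
  have h9 : Nat.card ↥f.range = Nat.card ↥(twistedG2 ↥(Fx σ) (3 ^ m₀)) :=
    (Nat.card_congr (MonoidHom.ofInjective hf).toEquiv).symm
  exact (le_of_eq h9).trans (card_ree_le hE')

theorem ReeO.congr {m : ℕ} {S S' : Type*} [Group S] [Group S'] (e : S ≃* S') (h : ReeO m S) : ReeO m S' := by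
  intro p a hp hap hout
  let b : MulAut S := (e.trans a).trans e.symm
  have hb : ∀ n : ℕ, ∀ s, (b ^ n) s = e.symm ((a ^ n) (e s)) := by
    intro n
    induction n with
    | zero => intro s; simp
    | succ n ih =>
      intro s
      rw [pow_succ, MulAut.mul_apply, ih, pow_succ, MulAut.mul_apply]
      change e.symm ((a ^ n) (e (e.symm (a (e s))))) = _
      rw [e.apply_symm_apply]
  have hbp : b ^ p = 1 := by
    ext s
    rw [hb, hap]
    simp
  rcases h p b hp hbp (by
    rintro ⟨g, hg⟩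
    apply hout
    refine ⟨e g, ?_⟩
    ext s
    have h1 := congrArg (fun c : MulAut S => e (c (e.symm s))) hg
    simp only [MulAut.conj_apply, map_mul, map_inv, e.apply_symm_apply] at h1
    have h2 : e (b (e.symm s)) = a s := by
      change e (e.symm (a (e (e.symm s)))) = a s
      simp
    rw [h2] at h1
    rw [h1, MulAut.conj_apply]) with ⟨h1, g, l, hl, hl5, hlg⟩ | ⟨h1, h2, h3⟩
  · left
    refine ⟨h1, e g, l, hl, hl5, ?_⟩
    have h2 : (e g)⁻¹ * a (e g) = e (g⁻¹ * b g) := by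
      rw [map_mul, map_inv]
      change _ = (e g)⁻¹ * e (e.symm (a (e g)))
      rw [e.apply_symm_apply]
    have h3 : orderOf (e (g⁻¹ * b g)) = orderOf (g⁻¹ * b g) :=
      orderOf_injective e.toMonoidHom e.injective _
    rw [h2, h3]
    exact hlg
  · right
    refine ⟨h1, h2, le_trans (le_of_eq ?_) h3⟩
    refine Nat.card_congr (Equiv.subtypeEquiv e.symm.toEquiv fun s => ?_)
    change a s = s ↔ e.symm (a (e (e.symm s))) = e.symm s
    simp

theorem reeO {S : Type*} [Group S] {K : Type} [Field K] [Fintype K] {m : ℕ}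
    (hm : 1 ≤ m) (hK : Fintype.card K = 3 ^ (2 * m + 1)) (e : S ≃* ↥(twistedG2 K (3 ^ m))) : ReeO m S :=
  ReeO.congr e.symm (reeO_model hm hK)

end Cfsg.Agent.H452.RG
end

private theorem dce_645a397b4e6f : _root_.True := by
  try have : _root_.True := by simp only [_root_.Cfsg.Agent.H452.RG.ReeD.zSub.congr_simp]
  try have : _root_.True := by simp only [_root_.Cfsg.Agent.ChevalleyStructure.Ree.Data.T.congr_simp]
  exact _root_.True.intro
end

-- part: H916/RG/Use
section
set_option linter.all false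
open scoped Cfsg.Agent.FastGrp

/-!
# S3509: rows with all automorphisms inner (helper916)
-/

set_option autoImplicit false

namespace Cfsg.Agent.H916.RG

open Cfsg Subgroup Cfsg.Agent.H106.RC

theorem inner_of_out {G : Type*} [Group G] (h : Nat.card (Cfsg.Out G) = 1) (x : MulAut G) :
    ∃ g : G, MulAut.conj g = x := by
  have h1 : Cfsg.Inn G = ⊤ := Subgroup.index_eq_one.mp h
  have h2 : x ∈ Cfsg.Inn G := by rw [h1]; trivial
  exact h2

theorem rc_of_inner {G : Type*} [Group G] (h : Nat.card (Cfsg.Out G) = 1) (h' : ∀ g : G, RCe G (MulAut.conj g)) :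
    RC G := by
  intro x
  obtain ⟨g, rfl⟩ := inner_of_out h x
  exact h' g

theorem simple_cgr {S T : Type*} [Group S] [Group T] (e : S ≃* T) (hs : IsSimpleGroup S) : IsSimpleGroup T := by
  have := hs
  exact e.symm.isSimpleGroup

theorem nc_cgr {S T : Type*} [Group S] [Group T] (e : S ≃* T) (hc : ¬ IsMulCommutative S) : ¬ IsMulCommutative T := by
  intro h
  apply hc
  refine ⟨⟨fun x y => e.injective ?_⟩⟩
  rw [map_mul, map_mul]
  exact h.is_comm.comm _ _

end Cfsg.Agent.H916.RG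
end

-- part: H916/RG/R22
section
prune_inst 0x10107104452202000018001062001c42a2000002000b800151e00702068edc2020022e20c8600f108820985400300048111001100210000000000800411d05a1800246028308a10ca70009809007180c00000000000000000000000000041000200000000
set_option linter.all false
open scoped Cfsg.Agent.FastGrp

-- part: H916/RG/D22
section
/-!
# S3509: data for the outer automorphisms of `M22` (helper916)
-/

set_option autoImplicit false
set_option Elab.async false

namespace Cfsg.Agent.H916.RG.D22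

open Cfsg.Agent.H916.RG.Eng

def t0 : Crt := ⟨16157574182517240470884232649182391, 6, 2, 3, [⟨true, 979180993065597304795119881531079200, 961395868724259873210502543788131776, 971674527269832880431752993353340000, 2⟩,
  ⟨false, 968821310926419585790889067847651008, 956895107988039780960446503240938592, 28854523491105362182008475499005015, 2⟩]⟩

def t1 : Crt := ⟨21391214206152104143122831480458647, 12, 2, 3, [⟨true, 977027843219350211503733522854186240, 973114049994665816872827521513639296, 966157787842509116458574894151539296, 2⟩]⟩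

def t2 : Crt := ⟨6787729774303067329069317132553751, 12, 2, 3, [⟨true, 969059426219132969362964338694637920, 959581480192944039445584720288139648, 966157787842509116458574894151539296, 3⟩]⟩

def t3 : Crt := ⟨21362502975168460096761790876718199, 6, 2, 3, [⟨true, 975019888338739786109414685859784896, 966258011189141776086596517680008512, 971674527269832880431752993353340000, 3⟩,
  ⟨false, 961976132419881430035448233787472544, 963221223187691166122836617720092096, 23675423068553433309540073939765303, 1⟩]⟩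

def t4 : Crt := ⟨16211432937130444950390752573560343, 6, 2, 3, [⟨true, 962049240101449246546162038578022912, 963835689180902056011525499838335584, 971674527269832880431752993353340000, 2⟩,
  ⟨false, 960008701235739531901872909409492352, 962616021264825592892799770327467648, 29151410008423665672372674252769879, 2⟩]⟩

def t5 : Crt := ⟨4204421265167617638707669047186839, 6, 2, 3, [⟨true, 957134022535576250172606714265253568, 957134022535576250172606714265253568, 971674527269832880431752993353340000, 2⟩,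
  ⟨false, 973055387355999527985866519406592064, 961390862674882079438904134473287168, 1932239001265248850593219166472919, 2⟩]⟩

def t6 : Crt := ⟨25257162623548569325448637679606039, 6, 2, 3, [⟨true, 983438946792420596377125605323688416, 978368497779751367365004841343857888, 966157787842509116458574894151539296, 2⟩,
  ⟨false, 968410793572728511843917605182262848, 976648809155261207884882458824554144, 1932239001265248850593219166472919, 2⟩]⟩

def t7 : Crt := ⟨17508919134179639694254695722818167, 6, 2, 3, [⟨true, 967596533868028224248811520914707040, 970313055857708838469135419118865728, 966157787842509116458574894151539296, 3⟩,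
  ⟨false, 984810043944171252176326603128155520, 984810043944171252176326603128155520, 23675423068553433309540073939765303, 1⟩]⟩

def t8 : Crt := ⟨10694558353298016114728675943455159, 6, 2, 3, [⟨true, 966423011001164088165244200282467744, 970075414790571937628875915361981728, 966157787842509116458574894151539296, 3⟩,
  ⟨false, 967513256244053389954333945156318912, 957143641825071922567419260946228864, 29151410008423665672372674252769879, 1⟩]⟩

def t9 : Crt := ⟨17457038588863510449985079637778647, 12, 2, 3, [⟨true, 958556991731305503368224710654634560, 972551841756300793945803274046691520, 971674527269832880431752993353340000, 2⟩]⟩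

def t10 : Crt := ⟨25286468049577297182898681599828407, 12, 2, 3, [⟨true, 960865977476707259598502826771874880, 976440334210163876066406969125438528, 971674527269832880431752993353340000, 3⟩]⟩

def t11 : Crt := ⟨8086478678484165626745354511753847, 6, 2, 3, [⟨true, 969916993353901199925616760100901184, 977777706525294025254643745162870080, 966157787842509116458574894151539296, 3⟩,
  ⟨false, 982224465358137087565611200852569344, 982224143116655669191593996334706048, 3178775605531490664207314667558967, 1⟩]⟩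

def t12 : Crt := ⟨4476794100910730106567361743467031, 12, 2, 3, [⟨true, 960948414562504837307874707570263104, 972890551001212842198790794570204224, 966157787842509116458574894151539296, 3⟩]⟩

def t13 : Crt := ⟨7112847225878652295683268011470967, 6, 2, 3, [⟨true, 966404294852143575721820551290394944, 981959059721799681528047721118838176, 971674527269832880431752993353340000, 3⟩,
  ⟨false, 973114049994665816872827521513639296, 977027843219350211503733522854186240, 3178775605531490664207314667558967, 1⟩]⟩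

def t14 : Crt := ⟨21067168832411020618338074236235959, 12, 2, 3, [⟨true, 963470405416997805868148626010843552, 962248469518412887977294139134978560, 966157787842509116458574894151539296, 2⟩]⟩

def t15 : Crt := ⟨10957698641319357793445443700569719, 6, 2, 3, [⟨true, 965956157738660216401273291338549952, 957511347151356711634959562861546080, 966157787842509116458574894151539296, 2⟩,
  ⟨false, 972913716592536997743984381651305760, 972481458416123847420548642748112448, 29171931033524210258733142741469239, 2⟩]⟩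

def t16 : Crt := ⟨8402487340823993880134531513267479, 12, 2, 3, [⟨true, 966379586912072889740911682916045120, 961186059545974939168948567036021952, 971674527269832880431752993353340000, 3⟩]⟩

def t17 : Crt := ⟨24952642957818629853648466146833623, 12, 2, 3, [⟨true, 981915278765655439693100303827414624, 970257297841469690259957687521530272, 971674527269832880431752993353340000, 2⟩]⟩

def t18 : Crt := ⟨7064224972137480414629607149683095, 12, 2, 3, [⟨true, 980756439379988999268216432135711872, 959902674896937660543954805079944320, 966157787842509116458574894151539296, 2⟩]⟩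

def t19 : Crt := ⟨4507859898686273981084169038676151, 12, 2, 3, [⟨true, 973114049994665816872827521513639296, 977027843219350211503733522854186240, 966157787842509116458574894151539296, 2⟩]⟩

def t20 : Crt := ⟨15865961265757412537426273119092855, 6, 2, 3, [⟨true, 970537005395566123846726638847498560, 980904375655287535840615467762159872, 971674527269832880431752993353340000, 3⟩,
  ⟨false, 963803719650836325581574775333588384, 962486071139181454750210562176667136, 29171931033524210258733142741469239, 1⟩]⟩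

def t21 : Crt := ⟨8369673598768486550319669490306487, 12, 2, 3, [⟨true, 976775676148804285198224673595793568, 972876917705897021890418662511358144, 971674527269832880431752993353340000, 2⟩]⟩

def t22 : Crt := ⟨11005956968035982726451845690117335, 6, 2, 3, [⟨true, 984533891561546618685759855106675936, 984046951799207917536426504741173792, 966157787842509116458574894151539296, 1⟩,
  ⟨false, 980959109710188580680183126828391584, 983143790672811360600348313651518624, 28854523491105362182008475499005015, 2⟩]⟩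

def t23 : Crt := ⟨17172078372127723868347090223189271, 12, 2, 3, [⟨true, 958359466031027950972183282619898368, 958269194190918926456748087635957888, 971674527269832880431752993353340000, 3⟩]⟩

def t24 : Crt := ⟨9454867963468890445759481480763767, 10, 2, 5, [⟨true, 975764150396612029631884079323715136, 983177527087618675039535618134184160, 981879184239620121163762008001559776, 1⟩,
  ⟨false, 980884823720551302367760286722672672, 980884823720551302367760286722672672, 15903051277449336887223675862199959, 1⟩]⟩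

def t25 : Crt := ⟨20216694196615638788551121706457815, 10, 2, 5, [⟨true, 971010593105500437210112981836344992, 971010593105500437210112981836344992, 963956304443641300529522121529536576, 1⟩,
  ⟨false, 971573434885751600396247132027931744, 971093985661052034846548549808729568, 15903051277449336887223675862199959, 1⟩]⟩

def t26 : Crt := ⟨3021152453614408451576913741402263, 10, 2, 5, [⟨true, 971286069426373603088660463164197504, 971286069426373603088660463164197504, 961171242650585465575198098196110720, 1⟩,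
  ⟨false, 971493607598420245157826022022155456, 971179428319592177477010812944060640, 15903051277449336887223675862199959, 1⟩]⟩

def t27 : Crt := ⟨1510194642787912998084144798437591, 10, 2, 5, [⟨true, 965254309334379198330684264432056384, 967687284886498490617672120159863904, 969789047105854498201389154525677024, 1⟩,
  ⟨false, 984723202889248133024409285979086912, 984330270817296455118495542260761952, 15903051277449336887223675862199959, 1⟩]⟩

def t28 : Crt := ⟨16124964625391327630035971924763703, 14, 2, 7, [⟨true, 984649647149968121315896139822762272, 984649647149968121315896139822762272, 972894188349963810248314692081104928, 2⟩,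
  ⟨false, 984773866770782100095164907006266720, 984576113469213619463531459362491584, 24845578109244385367080640692979767, 1⟩]⟩

def t29 : Crt := ⟨27727490236243870053571855969979447, 14, 2, 7, [⟨true, 961084081736978141155444427397899840, 976930426204361867648348889146313152, 962536659139042610887442499359809568, 1⟩,
  ⟨false, 957421148023527410000418880242200224, 965831020593555917167538899439431360, 24845578109244385367080640692979767, 1⟩]⟩

def t30 : Crt := ⟨8624344661173293934288390984382519, 14, 2, 7, [⟨true, 982865457330961893728150442103376192, 962781321823229864873045887105992960, 961068877354262454538544732454554656, 2⟩,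
  ⟨false, 979038381677762171284881629024177696, 968743765819399276758366879177346176, 24845578109244385367080640692979767, 2⟩]⟩

def t31 : Crt := ⟨22366636929805086999031111143989303, 14, 2, 7, [⟨true, 980555249308582033495975265223876928, 980703558499347610889617673322700896, 982039377189324085116835390746282016, 2⟩,
  ⟨false, 973970792660502034490951479562733600, 978066373443624222676752689702275104, 24845578109244385367080640692979767, 2⟩]⟩

def t32 : Crt := ⟨19701354415004284337520590625982519, 14, 2, 7, [⟨true, 965369820383959033570028825420773952, 983150668356633507321175714681006336, 965257004253120488025097777671383072, 1⟩,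
  ⟨false, 969234307627401626473113283308268704, 979619409835579451541924041120432736, 24845578109244385367080640692979767, 1⟩]⟩

def t33 : Crt := ⟨21669514770290056499212452958906423, 14, 2, 7, [⟨true, 965011074703115379814735225140217888, 963835842514064438119990511449606176, 969914189310228406385023768906376224, 2⟩,
  ⟨false, 979661269300148105116719785385865248, 982941730347290536708218615789469728, 24845578109244385367080640692979767, 2⟩]⟩

def t34 : Crt := ⟨4360818624000494853259634303603863, 14, 2, 7, [⟨true, 956846102626598647671456643820142688, 973899685985408702494262606112543424, 983217065497809517790209884785324736, 3⟩,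
  ⟨false, 984448981986799378123715259222051296, 984448981986799378123715259222051296, 9842818369913101136934474780707159, 1⟩]⟩

def t35 : Crt := ⟨23534584877396132189737683245379831, 14, 2, 7, [⟨true, 978881821644150952703147775038341568, 960878667730408168383315037244790112, 972301492090467176557215791638463008, 3⟩,
  ⟨false, 965244250824380919291638579784130592, 964966899041356753546054393160928288, 9842818369913101136934474780707159, 1⟩]⟩

def t36 : Crt := ⟨13280133132730672329309579623480599, 14, 2, 7, [⟨true, 964796409544879984490212252495069536, 965012062749473762092353114438062624, 973823733218545024500887158898578080, 2⟩,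
  ⟨false, 979569898387981126502956864433076448, 978977588412139857268835715278814432, 9842818369913101136934474780707159, 2⟩]⟩

def t37 : Crt := ⟨10793570891421653406740220507505015, 14, 2, 7, [⟨true, 956805726097162364094119248977794272, 968631040618290208318972238748111552, 977996727137142345844033308321893568, 3⟩,
  ⟨false, 975707045024006459910731440071236192, 958835764351103700385180480328540800, 9842818369913101136934474780707159, 1⟩]⟩

def t38 : Crt := ⟨14622841856548878292463998910286967, 14, 2, 7, [⟨true, 972666564205814376655772246941610112, 963763659683435270851501205635912256, 957588541006505196351814851341991328, 2⟩,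
  ⟨false, 959546351950136666614391865463212256, 959546351950136666614391865463212256, 9842818369913101136934474780707159, 1⟩]⟩

def t39 : Crt := ⟨5338678706160878389648778709094999, 14, 2, 7, [⟨true, 960722607944764638004354476322082464, 972323596377330735034661146657993056, 963881045306203890058970216284886464, 1⟩,
  ⟨false, 980622937494861966993187829588831552, 967232241573041994266466757751972160, 9842818369913101136934474780707159, 1⟩]⟩

/-- the certificates -/
def T : List Crt := [t0, t1, t2, t3, t4, t5, t6, t7, t8, t9, t10, t11, t12, t13, t14, t15, t16, t17, t18, t19, t20, t21, t22, t23, t24, t25, t26, t27, t28, t29, t30, t31, t32, t33, t34, t35, t36, t37, t38, t39]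

def o0 : Odd where
  p := 3
  c := 971674527269832880431752993353340000
  wd := [(1, 0), (7, 0), (2, 0), (7, 1), (9, 0), (2, 1), (2, 2), (5, 0), (6, 0), (4, 0), (10, 0), (11, 0), (6, 2), (8, 0), (5, 1), (5, 2), (8, 2), (4, 2), (8, 1), (7, 2), (3, 0), (4, 1), (6, 1), (0, 0)]
  sts := [(23, [0], []),
    (0, [23], []),
    (2, List.range 24, []),
    (20, List.range 24, []),
    (9, List.range 24, [[(1, 0), (2, 0), (2, 1), (2, 2), (4, 0), (4, 2), (3, 0), (4, 1)]]),
    (7, List.range 24, [[(2, 0), (2, 1), (2, 2), (5, 0), (5, 1), (5, 2), (3, 0), (0, 0)]]),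
    (8, List.range 24, [[(2, 1), (2, 2), (5, 0), (6, 0), (4, 0), (6, 2), (5, 2), (4, 2)], [(1, 0), (2, 2), (4, 0), (6, 2), (5, 1), (5, 2), (3, 0), (6, 1)]]),
    (1, List.range 24, [[(7, 0), (2, 0), (2, 1), (5, 0), (6, 0), (6, 2), (5, 1), (7, 2)], [(1, 0), (7, 0), (7, 1), (2, 1), (6, 0), (4, 0), (6, 2), (3, 0)]]),
    (13, List.range 24, [[(1, 0), (7, 0), (2, 0), (2, 1), (2, 2), (6, 2), (8, 0), (5, 2)], [(7, 0), (2, 0), (7, 1), (2, 2), (5, 0), (8, 0), (5, 1), (8, 2)], [(1, 0), (2, 0), (7, 1), (2, 1), (2, 2), (5, 0), (6, 0), (8, 1)]]),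
    (4, List.range 24, [[(2, 0), (7, 1), (9, 0), (2, 1), (2, 2), (4, 0), (6, 2), (5, 1)]]),
    (10, List.range 24, [[(1, 0), (7, 0), (2, 0), (7, 1), (9, 0), (5, 0), (10, 0), (6, 2)]]),
    (11, List.range 24, [[(7, 0), (2, 0), (7, 1), (9, 0), (2, 1), (6, 0), (11, 0), (8, 0)]])]

def o1 : Odd where
  p := 5
  c := 963956304443641300529522121529536576
  wd := [(1, 0), (7, 0), (7, 1), (5, 0), (4, 0), (6, 0), (4, 4), (7, 3), (6, 2), (6, 3), (6, 1), (4, 2), (7, 2), (5, 4), (5, 3), (7, 4), (3, 0), (2, 0), (6, 4), (5, 2), (4, 1), (5, 1), (4, 3), (0, 0)]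
  sts := [(23, [0], []),
    (0, [23], []),
    (17, List.range 24, []),
    (16, List.range 24, []),
    (4, List.range 24, [[(1, 0), (4, 0), (4, 4), (4, 2), (3, 0), (2, 0), (4, 1), (4, 3)]]),
    (3, List.range 24, [[(1, 0), (5, 0), (5, 4), (5, 3), (3, 0), (5, 2), (5, 1), (0, 0)]]),
    (5, List.range 24, [[(1, 0), (5, 0), (4, 4), (6, 2), (6, 3), (5, 3), (3, 0), (2, 0)], [(4, 0), (6, 0), (6, 3), (6, 1), (4, 2), (5, 4), (5, 3), (6, 4)], [(1, 0), (5, 0), (4, 0), (6, 0), (6, 2), (6, 1), (5, 3), (5, 2)], [(1, 0), (5, 0), (6, 0), (4, 4), (4, 2), (5, 4), (5, 3), (4, 1)], [(5, 0), (6, 0), (4, 4), (6, 2), (6, 3), (6, 1), (4, 2), (5, 1)]]),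
    (1, List.range 24, [[(1, 0), (7, 0), (7, 1), (5, 0), (4, 0), (7, 3), (6, 1), (7, 2)], [(7, 0), (7, 1), (5, 0), (4, 0), (6, 0), (6, 2), (4, 2), (5, 4)], [(1, 0), (7, 0), (6, 0), (4, 4), (7, 3), (6, 3), (6, 1), (5, 3)], [(7, 0), (7, 1), (4, 4), (7, 3), (6, 2), (6, 1), (4, 2), (7, 4)], [(1, 0), (7, 0), (4, 0), (6, 2), (6, 3), (6, 1), (4, 2), (3, 0)]])]

def o2 : Odd where
  p := 7
  c := 961068877354262454538544732454554656
  wd := [(1, 0), (2, 0), (5, 0), (5, 1), (3, 0), (3, 4), (4, 0), (3, 5), (5, 5), (5, 2), (5, 6), (3, 1), (4, 6), (3, 2), (5, 3), (4, 1), (4, 3), (4, 2), (5, 4), (4, 4), (3, 3), (4, 5), (3, 6), (0, 0)]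
  sts := [(23, [0], []),
    (0, [23], []),
    (1, List.range 24, []),
    (4, List.range 24, [[(3, 0), (3, 4), (3, 5), (3, 1), (3, 2), (3, 3), (3, 6), (0, 0)]]),
    (6, List.range 24, [[(1, 0), (3, 0), (3, 4), (3, 1), (3, 2), (4, 1), (4, 3), (4, 4)], [(4, 0), (3, 5), (3, 1), (4, 6), (3, 2), (4, 1), (4, 3), (3, 3)], [(3, 0), (3, 4), (4, 0), (3, 1), (4, 6), (3, 2), (4, 2), (4, 5)], [(1, 0), (3, 0), (3, 5), (4, 6), (3, 2), (4, 1), (4, 2), (3, 6)]]),
    (2, List.range 24, [[(1, 0), (2, 0), (5, 0), (5, 1), (3, 0), (3, 5), (5, 6), (4, 6)], [(2, 0), (5, 0), (5, 1), (3, 0), (3, 4), (5, 5), (3, 1), (3, 2)], [(1, 0), (2, 0), (3, 4), (4, 0), (3, 5), (5, 2), (5, 6), (5, 3)], [(2, 0), (5, 0), (4, 0), (3, 5), (5, 5), (5, 6), (3, 1), (4, 1)], [(1, 0), (2, 0), (3, 0), (5, 5), (5, 2), (5, 6), (3, 1), (4, 3)], [(1, 0), (5, 1), (3, 0), (3, 4), (3, 5), (5, 2), (3, 1), (4, 2)], [(1, 0), (5, 0), (5, 1), (3, 4), (4, 0), (3, 5), (5, 5), (5, 4)]])]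

def o3 : Odd where
  p := 7
  c := 972301492090467176557215791638463008
  wd := [(1, 0), (5, 0), (3, 0), (4, 0), (4, 4), (3, 2), (5, 5), (4, 5), (4, 6), (2, 0), (4, 2), (4, 3), (3, 3), (5, 4), (5, 2), (3, 4), (3, 1), (5, 1), (4, 1), (3, 5), (3, 6), (5, 6), (5, 3), (0, 0)]
  sts := [(23, [0], []),
    (0, [23], []),
    (9, List.range 24, []),
    (2, List.range 24, [[(3, 0), (3, 2), (2, 0), (3, 3), (3, 4), (3, 1), (3, 5), (3, 6)]]),
    (3, List.range 24, [[(3, 0), (4, 0), (4, 5), (4, 6), (2, 0), (4, 3), (3, 3), (3, 1)], [(3, 0), (4, 4), (3, 2), (4, 5), (4, 3), (3, 3), (3, 4), (4, 1)], [(3, 0), (4, 0), (4, 4), (2, 0), (4, 2), (4, 3), (3, 4), (3, 5)], [(3, 0), (4, 0), (3, 2), (4, 6), (4, 2), (3, 3), (3, 4), (0, 0)]]),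
    (1, List.range 24, [[(1, 0), (5, 0), (3, 0), (4, 0), (4, 4), (4, 5), (4, 2), (3, 3)], [(5, 0), (3, 0), (4, 0), (4, 4), (3, 2), (4, 6), (4, 3), (5, 4)], [(1, 0), (5, 0), (3, 2), (5, 5), (4, 5), (2, 0), (4, 2), (5, 2)], [(5, 0), (3, 0), (5, 5), (4, 5), (4, 6), (4, 2), (4, 3), (3, 4)], [(1, 0), (4, 0), (4, 4), (3, 2), (4, 5), (2, 0), (4, 3), (5, 1)], [(4, 0), (3, 2), (5, 5), (4, 6), (2, 0), (4, 2), (4, 3), (5, 6)], [(1, 0), (5, 0), (3, 0), (4, 0), (5, 5), (2, 0), (4, 3), (5, 3)]])]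

def o4 : Odd where
  p := 11
  c := 973927421301535459106453854890594400
  wd := [(1, 0), (2, 0), (2, 5), (2, 1), (2, 6), (2, 10), (2, 4), (3, 0), (3, 6), (3, 2), (3, 9), (2, 2), (3, 8), (3, 10), (2, 8), (3, 7), (2, 3), (3, 4), (3, 3), (3, 5), (2, 9), (3, 1), (2, 7), (0, 0)]
  sts := [(23, [0], []),
    (0, [23], []),
    (1, List.range 24, [[(2, 0), (2, 5), (2, 1), (2, 6), (2, 10), (2, 4), (2, 2), (2, 8), (2, 3), (2, 9), (2, 7), (0, 0)]]),
    (7, List.range 24, [[(1, 0), (2, 0), (2, 5), (2, 1), (2, 6), (3, 0), (3, 9), (3, 8)], [(2, 0), (2, 5), (2, 1), (2, 6), (2, 10), (3, 6), (2, 2), (3, 10)], [(1, 0), (2, 0), (2, 10), (2, 4), (3, 0), (3, 2), (3, 9), (2, 8)], [(2, 0), (2, 5), (2, 4), (3, 0), (3, 6), (3, 9), (2, 2), (3, 7)], [(1, 0), (2, 0), (2, 6), (3, 6), (3, 2), (3, 9), (2, 2), (2, 3)], [(1, 0), (2, 1), (2, 6), (2, 10), (3, 0), (3, 2), (2, 2), (3, 4)], [(1, 0), (2, 5), (2, 1), (2, 10), (2, 4), (3, 0), (3, 6), (3, 3)], [(2, 0), (2, 1), (2, 6), (2, 4),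 (3, 0), (3, 6), (3, 2), (3, 5)], [(2, 5), (2, 6), (2, 10), (3, 0), (3, 6), (3, 2), (3, 9), (2, 9)], [(2, 1), (2, 10), (2, 4), (3, 6), (3, 2), (3, 9), (2, 2), (3, 1)], [(1, 0), (2, 0), (2, 5), (2, 1), (2, 4), (3, 2), (2, 2), (2, 7)]])]

def o5 : Odd where
  p := 11
  c := 968530233104700586423409967985410496
  wd := [(1, 0), (2, 0), (2, 6), (3, 0), (3, 5), (2, 9), (3, 7), (2, 8), (3, 6), (3, 8), (2, 4), (3, 2), (2, 10), (2, 5), (2, 1), (3, 3), (2, 7), (2, 2), (3, 1), (3, 9), (3, 10), (3, 4), (2, 3), (0, 0)]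
  sts := [(23, [0], []),
    (0, [23], []),
    (1, List.range 24, [[(1, 0), (2, 0), (2, 6), (2, 9), (2, 8), (2, 4), (2, 10), (2, 5), (2, 1), (2, 7), (2, 2), (2, 3)]]),
    (3, List.range 24, [[(1, 0), (2, 0), (2, 6), (3, 0), (3, 5), (2, 8), (2, 4), (2, 10)], [(2, 0), (2, 6), (3, 0), (3, 5), (2, 9), (3, 6), (3, 2), (2, 5)], [(1, 0), (2, 0), (2, 9), (3, 7), (2, 8), (3, 8), (2, 4), (2, 1)], [(2, 0), (2, 6), (3, 7), (2, 8), (3, 6), (2, 4), (3, 2), (3, 3)], [(1, 0), (2, 0), (3, 5), (3, 6), (3, 8), (2, 4), (3, 2), (2, 7)], [(1, 0), (3, 0), (3, 5), (2, 9), (2, 8), (3, 8), (3, 2), (2, 2)], [(1, 0), (2, 6), (3, 0), (2, 9), (3, 7), (2, 8), (3, 6), (3, 1)], [(2, 0), (3, 0), (3, 5), (3, 7), (2, 8), (3, 6), (3, 8), (3, 9)], [(2, 6), (3, 5), (2, 9), (2, 8), (3, 6), (3, 8), (2, 4), (3, 10)], [(3, 0), (2, 9), (3, 7), (3, 6), (3, 8), (2, 4), (3, 2), (3, 4)], [(1, 0), (2, 6), (3, 5), (2, 9), (3, 7), (2, 4), (3, 2), (0, 0)]])]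

/-- the classes -/
def O : List Odd := [o0, o1, o2, o3, o4, o5]

end Cfsg.Agent.H916.RG.D22
end

-- part: H916/RG/R22
section
/-!
# S3509: `M22` (helper916)
-/

set_option autoImplicit false

namespace Cfsg.Agent.H916.RG.R22

open Cfsg Cfsg.Agent.H106.RC Cfsg.Agent.H334.Ore Cfsg.Agent.H334.Ore.Mat Cfsg.Agent.H916.RG.Eng
open Cfsg.Agent.SporadicStructure.M24El Cfsg.Agent.H729.Trans
open Cfsg.Agent.SporadicA.GolayPerm Cfsg.Agent.SporadicA.GolayBase
open Cfsg.Agent.KFacts.MM.OutAut (emb emb_inj emb_conj of_emb_mem ind_mem)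
open Cfsg.Agent.J4Type.Aut22 (D22 mem_D22_iff mem_M22_iff_D22)

/-- the class of the record `r5` -/
def t5 : Crt where
  c := 974265648109078940214804430252913312
  m := 6
  p := 2
  q := 3
  st := [⟨true, 971797536695641304457252446696350752, 979586328606383424427148734998170656, 984650585973394783790417478971181728, 2⟩]

/-- the certificates -/
def T : List Crt := [t5]


private noncomputable def _root_.Cfsg.Agent.GolayF.f0 : {f // @Cfsg.Agent.H916.RG.Eng.chk = f} :=
  ⟨_, by delta Cfsg.Agent.H334.Ore.Mat.inG Cfsg.Agent.H916.RG.Eng.chk Cfsg.Agent.H916.RG.Eng.crtOk Cfsg.Agent.H916.RG.Eng.nid Cfsg.Agent.H916.RG.Eng.nw Cfsg.Agent.H916.RG.Eng.okk Cfsg.Agent.H916.RG.Eng.ppOk Cfsg.Agent.H916.RG.Eng.pwc Cfsg.Agent.H916.RG.Eng.pwc._f Cfsg.Agent.H916.RG.Eng.run Cfsg.Agent.H916.RG.Eng.run._f; rewrite [Cfsg.Agent.GolayF.papp_eq, Cfsg.Agent.GolayF.pcomp_eq, Cfsg.Agent.GolayF.ok_eq]; exact rfl⟩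

theorem hD : (M22Data.D.all fun r => chk M22Data.F T r.c) = true := by (rewrite [Cfsg.Agent.GolayF.f0.2]; decide +kernel)

/-- inner automorphisms -/
theorem rce_inner (hs : IsSimpleGroup Spor.M22) (hc : ¬ IsMulCommutative Spor.M22) (g : Spor.M22) :
    RCe Spor.M22 (MulAut.conj g) :=
  rce_of_data Cfsg.Agent.H729.M22Deg.inc_injective hs hc M22.hmem M22Data.D T hD M22.cov g

theorem emb_M24 (α : MulAut Spor.M22) : emb α ∈ M24 := ((mem_D22_iff _).1 (ind_mem α)).1

/-- the embedding -/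
noncomputable def φ : MulAut Spor.M22 →* M24 := emb.codRestrict M24 emb_M24

theorem φ_inj : Function.Injective φ := by
  intro α β h
  exact emb_inj (congrArg Subtype.val h)

theorem φ_conj (s : Spor.M22) : φ (MulAut.conj s) = Cfsg.Agent.H729.M22Deg.inc s :=
  Subtype.ext (emb_conj s)

/-- tables of elements of `M22` -/
def P (c : ℕ) : Bool := ok c && (Nat.beq (papp c 23) 23 && Nat.beq (papp c 0) 0)

theorem hP (c : ℕ) (h : P c = true) : ok c = true ∧ ∃ s : Spor.M22, φ (MulAut.conj s) = el c := by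
  unfold P at h
  rw [Bool.and_eq_true, Bool.and_eq_true] at h
  obtain ⟨h1, h2, h3⟩ := h
  refine ⟨h1, ?_⟩
  obtain ⟨s, hs⟩ := M22.hmem c h1 (by
    intro b hb
    simp only [M22Data.F, List.mem_cons, List.not_mem_nil, or_false] at hb
    rcases hb with rfl | rfl
    · exact Nat.eq_of_beq_eq_true h2
    · exact Nat.eq_of_beq_eq_true h3)
  exact ⟨s, by rw [φ_conj, hs]⟩

/-- candidates -/
def cand (b : ℕ) : List ℕ := if b = 23 then [0] else if b = 0 then [23] else List.range 24

/-- no restriction -/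
def Q (_ : ℕ) : Bool := true

theorem im_outer {α : MulAut Spor.M22} (h : emb α ∉ Spor.M22) : im (φ α) 23 = 0 ∧ im (φ α) 0 = 23 := by
  have h1 := ((mem_D22_iff _).1 (ind_mem α)).2
  have h2 : ¬ (emb α) none = none := fun h3 => h ((mem_M22_iff_D22 _).2 ⟨ind_mem α, h3⟩)
  rcases h1 with h1 | h1
  · exact absurd h1.1 h2
  · have e23 : pt 23 = none := by decide
    have e0 : pt 0 = some 0 := by decide
    constructor
    · show idx ((emb α) (pt 23)) = 0
      rw [e23]
      have h3 : (emb α) none = some 0 := h1.1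
      rw [h3]
      decide
    · show idx ((emb α) (pt 0)) = 23
      rw [e0]
      have h3 : (emb α) (some 0) = none := h1.2
      rw [h3]
      decide

private noncomputable def _root_.Cfsg.Agent.GolayF.f1 : {f // @Cfsg.Agent.H916.RG.Eng.chkO = f} :=
  ⟨_, by delta Cfsg.Agent.H729.Trans.mk Cfsg.Agent.H729.Trans.mk._f Cfsg.Agent.H729.Trans.pre Cfsg.Agent.H729.Trans.srcOk Cfsg.Agent.H729.Trans.srcOk._f Cfsg.Agent.H729.Trans.wdOk Cfsg.Agent.H916.RG.Eng.chkO Cfsg.Agent.H916.RG.Eng.chkP' Cfsg.Agent.H916.RG.Eng.crtOkP Cfsg.Agent.H916.RG.Eng.nid Cfsg.Agent.H916.RG.Eng.nw Cfsg.Agent.H916.RG.Eng.okkP Cfsg.Agent.H916.RG.Eng.ppOk Cfsg.Agent.H916.RG.Eng.pwc Cfsg.Agent.H916.RG.Eng.pwc._f Cfsg.Agent.H916.RG.Eng.runP Cfsg.Agent.H916.RG.Eng.runP._f; rewrite [Cfsg.Agent.GolayF.papp_eq, Cfsg.Agent.GolayF.pcomp_eq, Cfsg.Agent.GolayF.isCode_eq, Cfsg.Agent.GolayF.ok_eq, Cfsg.Agent.GolayF.pw_eq, Cfsg.Agent.GolayF.tl_eq]; exact rfl⟩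

private noncomputable def _root_.Cfsg.Agent.GolayF.f2 : {f // @Cfsg.Agent.H916.RG.R22.P = f} :=
  ⟨_, by delta Cfsg.Agent.H916.RG.R22.P; rewrite [Cfsg.Agent.GolayF.papp_eq, Cfsg.Agent.GolayF.ok_eq]; exact rfl⟩

theorem hO : (D22.O.all (chkO P Q cand D22.T)) = true := by (rewrite [Cfsg.Agent.GolayF.f1.2, Cfsg.Agent.GolayF.f2.2]; decide +kernel)

private noncomputable def _root_.Cfsg.Agent.GolayF.f3 : {f // @Cfsg.Agent.H916.RG.Eng.nid = f} :=
  ⟨_, by delta Cfsg.Agent.H916.RG.Eng.nid; rewrite [Cfsg.Agent.GolayF.papp_eq]; exact rfl⟩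

private noncomputable def _root_.Cfsg.Agent.GolayF.f4 : {f // @Cfsg.Agent.H916.RG.Eng.pwc = f} :=
  ⟨_, by delta Cfsg.Agent.H916.RG.Eng.pwc Cfsg.Agent.H916.RG.Eng.pwc._f; rewrite [Cfsg.Agent.GolayF.pcomp_eq]; exact rfl⟩

theorem hodd : (M22Data.D.all fun r => ([3, 5, 7, 11].all fun q => nid (pwc r.c q)) || D22.O.any fun o => Nat.beq o.c r.c) = true := by
  (rewrite [Cfsg.Agent.GolayF.f3.2, Cfsg.Agent.GolayF.f4.2]; decide +kernel)

/-- outer automorphisms -/
theorem rce_outer (hs : IsSimpleGroup Spor.M22) (hc : ¬ IsMulCommutative Spor.M22) (hcard : Nat.card Spor.M22 = 443520)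
    {α : MulAut Spor.M22} (hα : emb α ∉ Spor.M22) : RCe Spor.M22 α := by
  have hfin : Finite Spor.M22 := Nat.finite_of_card_ne_zero (by rw [hcard]; norm_num)
  refine rce_of_search φ_inj hs hc hP (fun α => emb α ∉ Spor.M22) ?_ ?_ ?_ ?_ hO hα
  · intro α t h h1
    apply h
    rw [map_mul, map_mul, map_inv, emb_conj] at h1
    have h2 := Spor.M22.mul_mem (Spor.M22.mul_mem (Spor.M22.inv_mem t.2) h1) t.2
    have e : (t : Equiv.Perm GolayPt)⁻¹ * (t * emb α * (t : Equiv.Perm GolayPt)⁻¹) * t = emb α := by group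
    rwa [e] at h2
  · intro α h
    refine ⟨rfl, fun i hi => ?_⟩
    obtain ⟨h1, h2⟩ := im_outer h
    unfold cand
    by_cases h23 : i = 23
    · rw [if_pos h23, h23, h1]
      exact List.mem_singleton.2 rfl
    · rw [if_neg h23]
      by_cases h0 : i = 0
      · rw [if_pos h0, h0, h2]
        exact List.mem_singleton.2 rfl
      · rw [if_neg h0]
        exact List.mem_range.2 (im_lt _ _)
  · intro α h
    have h1 : emb (α ^ 2) ∈ Spor.M22 := by
      rw [mem_M22_iff_D22]
      refine ⟨ind_mem _, ?_⟩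
      have h1 := ((mem_D22_iff _).1 (ind_mem α)).2
      rw [pow_two, map_mul, Equiv.Perm.mul_apply]
      rcases h1 with h1 | h1
      · have h2 : (emb α) none = none := h1.1
        rw [h2, h2]
      · have h2 : (emb α) none = some 0 := h1.1
        have h3 : (emb α) (some 0) = none := h1.2
        rw [h2, h3]
    rw [of_emb_mem h1]
    exact ⟨_, rfl⟩
  · intro s p hp hp2 hsp
    have hpc : p ∈ [3, 5, 7, 11] := by
      have h1 : p ∣ 443520 := by
        rw [← hcard, ← hsp]
        exact orderOf_dvd_natCard s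
      have h2 : p ∈ (443520 : ℕ).primeFactors := Nat.mem_primeFactors.2 ⟨hp, h1, by norm_num⟩
      have h3 : (443520 : ℕ).primeFactors = {2, 3, 5, 7, 11} := by
        rw [show (443520 : ℕ) = 2 ^ 7 * 3 ^ 2 * 5 * 7 * 11 by norm_num]
        rw [Nat.primeFactors_mul (by norm_num) (by norm_num), Nat.primeFactors_mul (by norm_num) (by norm_num),
          Nat.primeFactors_mul (by norm_num) (by norm_num), Nat.primeFactors_mul (by norm_num) (by norm_num),
          Nat.primeFactors_pow _ (by norm_num), Nat.primeFactors_pow _ (by norm_num),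
          Nat.Prime.primeFactors Nat.prime_two, Nat.Prime.primeFactors Nat.prime_three,
          Nat.Prime.primeFactors (by norm_num), Nat.Prime.primeFactors (by norm_num),
          Nat.Prime.primeFactors (by norm_num)]
        rfl
      rw [h3] at h2
      simp only [Finset.mem_insert, Finset.mem_singleton] at h2
      simp only [List.mem_cons, List.not_mem_nil, or_false]
      rcases h2 with h | h | h | h | h
      · exact absurd h hp2
      · exact Or.inl h
      · exact Or.inr (Or.inl h)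
      · exact Or.inr (Or.inr (Or.inl h))
      · exact Or.inr (Or.inr (Or.inr h))
    rcases M22.cov s with rfl | ⟨r, hr, x, hx, hxs⟩
    · rw [orderOf_one] at hsp
      exact absurd hsp.symm hp.one_lt.ne'
    · have h1 := List.all_eq_true.1 hodd r hr
      rw [Bool.or_eq_true] at h1
      have hok : ok r.c = true := by
        have h2 := List.all_eq_true.1 hD r hr
        unfold chk at h2
        rw [Bool.and_eq_true] at h2
        exact h2.1
      obtain ⟨u, hu⟩ := isConj_iff.1 hxs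
      have hxp : x ^ p = 1 := by
        have h3 : s ^ p = 1 := by rw [← hsp, pow_orderOf_eq_one]
        rw [← hu, conj_pow] at h3
        have h4 : u⁻¹ * (u * x ^ p * u⁻¹) * u = x ^ p := by group
        rw [← h4, h3]
        group
      rcases h1 with h1 | h1
      · exfalso
        refine el_ne_one (ok_pwc hok p) (List.all_eq_true.1 h1 p hpc) ?_
        rw [el_pwc hok, ← hx, ← map_pow, hxp, map_one]
      · obtain ⟨o, ho, ho'⟩ := List.any_eq_true.1 h1
        refine ⟨o, ho, u⁻¹, 1, ?_⟩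
        have e : u⁻¹ * s ^ 1 * u⁻¹⁻¹ = x := by rw [← hu]; group
        rw [e, φ_conj, hx, Nat.eq_of_beq_eq_true ho']

/-- **the row `M22`** -/
theorem rc_m22 {S : Type} [Group S] (hs : IsSimpleGroup S) (hc : ¬ IsMulCommutative S) (h : Spor.IsoM22 S) : RC S := by
  obtain ⟨e⟩ := h
  refine RC.congr e.symm fun α => ?_
  by_cases hα : emb α ∈ Spor.M22
  · rw [of_emb_mem hα]
    exact rce_inner (simple_cgr e hs) (nc_cgr e hc) _
  · exact rce_outer (simple_cgr e hs) (nc_cgr e hc) Cfsg.Agent.H729.M22Deg.card_M22 hα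

end Cfsg.Agent.H916.RG.R22
end
end
end
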